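import Groth.Agent.Lib.Lead.Koszul.KPn

/-!
# The Koszul complex on `P^n` tensored with a module, and Mumford's lemma

For a module `F` on `P^n_R`: if `H^{q+(n-i)}(F(a+i)) = 0` for `0 ≤ i ≤ n` then `H^q(F(a+n+1)) = 0`.
-/

set_option autoImplicit false

universe u

open CategoryTheory CategoryTheory.Limits AlgebraicGeometry Opposite

namespace Groth.Agent.Lib.Lead.Koszul

open Groth.Agent.Lib.Helper29.QCoh Groth.Agent.Lib.Lead.TwistExact Groth.Agent.Lib.Lead.LinLES
  Groth.Agent.Lib.Lead.Pn

attribute [local instance] CategoryTheory.Abelian.hasFiniteBiproducts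

section Pn

variable (n : ℕ) (R : Type u) [CommRing R] (a : ℤ)

theorem subsingleton_HH_tensor_KPn_X (F : (CohB1.ProjSpace n R).Modules) (i q : ℕ)
    (h : Subsingleton (Coh.HH (CohB1.ProjSpace n R) (tw n R F (a + i)) q)) :
    Subsingleton (Coh.HH (CohB1.ProjSpace n R) ((tensorRight F).obj ((KPn n R a).X i)) q) := by
  let L : Sub (Fin (n + 1)) i → (CohB1.ProjSpace n R).Modules :=
    fun _ => Twist.twistProjSpace n R (a + i)
  have e : (tensorRight F).obj (⨁ L) ≅ ⨁ fun S => (tensorRight F).obj (L S) :=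
    (tensorRight F).mapBiproduct L
  refine subsingleton_HH_of_iso e.symm q ?_
  apply subsingleton_HH_biproduct R
  intro S
  exact subsingleton_HH_of_iso
    ((Groth.Agent.Lib.Helper17.Tensor.objIsoFlipObj (O := (CohB1.ProjSpace n R).sheaf) F).app
      (Twist.twistProjSpace n R (a + i))) q h

theorem subsingleton_HH_tw_of_tensor_KPn_X (F : (CohB1.ProjSpace n R).Modules) (i q : ℕ)
    (hi : i ≤ n + 1)
    (h : Subsingleton (Coh.HH (CohB1.ProjSpace n R) ((tensorRight F).obj ((KPn n R a).X i)) q)) :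
    Subsingleton (Coh.HH (CohB1.ProjSpace n R) (tw n R F (a + i)) q) := by
  let L : Sub (Fin (n + 1)) i → (CohB1.ProjSpace n R).Modules :=
    fun _ => Twist.twistProjSpace n R (a + i)
  have e : (tensorRight F).obj (⨁ L) ≅ ⨁ fun S => (tensorRight F).obj (L S) :=
    (tensorRight F).mapBiproduct L
  have h1 := subsingleton_HH_of_iso e q h
  obtain ⟨S, hS⟩ := Finset.exists_subset_card_eq (s := (Finset.univ : Finset (Fin (n + 1))))
    (n := i) (by rw [Finset.card_univ, Fintype.card_fin]; exact hi)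
  have h2 := subsingleton_HH_summand R (fun S => (tensorRight F).obj (L S)) q ⟨S, hS.2⟩ h1
  exact subsingleton_HH_of_iso
    ((Groth.Agent.Lib.Helper17.Tensor.objIsoFlipObj (O := (CohB1.ProjSpace n R).sheaf) F).app
      (Twist.twistProjSpace n R (a + i))).symm q h2

/-- The tensored short exact sequences `0 → Z^i ⊗ F → K^i ⊗ F → Z^{i+1} ⊗ F → 0`. -/
theorem shortExact_cyclesSC_tensor_KPn (F : (CohB1.ProjSpace n R).Modules) (i : ℕ) :
    ((Groth.Agent.Lib.Helper17.CyclesSES.cyclesSC (KPn n R a) i (i + 1)).map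
      (tensorRight F)).ShortExact :=
  shortExact_cyclesSC_tensor (KPn n R a) (KPn_exactAt n R a)
    (isFlat_KPn_X n R a) (n + 2) (isZero_KPn_X n R a) F i

theorem isZero_cycles_zero : IsZero ((KPn n R a).cycles 0) := by
  have h0 := ((KPn n R a).exactAt_iff_isZero_homology 0).mp (KPn_exactAt n R a 0)
  exact h0.of_iso ((KPn n R a).isoHomologyπ 0 0 (by simp) ((KPn n R a).shape _ _ (by simp)))

theorem isZero_cycles_of_le (i : ℕ) (hi : n + 2 ≤ i) : IsZero ((KPn n R a).cycles i) := by
  have hz := isZero_KPn_X n R a i hi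
  rw [IsZero.iff_id_eq_zero, ← cancel_mono ((KPn n R a).iCycles i)]
  exact hz.eq_of_tgt _ _

/-- Vanishing of the cohomology of the tensored syzygies. -/
theorem subsingleton_HH_cycles (F : (CohB1.ProjSpace n R).Modules) (q : ℕ) (i : ℕ)
    (hi : i ≤ n + 1)
    (h : ∀ j : ℕ, j < i →
      Subsingleton (Coh.HH (CohB1.ProjSpace n R) (tw n R F (a + j)) (q + (n - j)))) :
    Subsingleton (Coh.HH (CohB1.ProjSpace n R)
      ((tensorRight F).obj ((KPn n R a).cycles i)) (q + (n + 1 - i))) := by
  induction i with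
  | zero =>
    exact subsingleton_HH_of_isZero R ((tensorRight F).map_isZero (isZero_cycles_zero n R a)) _
  | succ i ih =>
    have hi' : i ≤ n := by omega
    have h₁ := ih (by omega) (fun j hj => h j (by omega))
    rw [show q + (n + 1 - i) = q + (n - i) + 1 by omega] at h₁
    have h₂ := subsingleton_HH_tensor_KPn_X n R a F i (q + (n - i)) (h i (by omega))
    have := subsingleton_HH_X₃ _ (shortExact_cyclesSC_tensor_KPn n R a F i) (q + (n - i)) h₂ h₁
    rw [show q + (n + 1 - (i + 1)) = q + (n - i) by omega]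
    exact this

/-- **Mumford's lemma** via the Koszul complex. -/
theorem subsingleton_HH_tw_top (F : (CohB1.ProjSpace n R).Modules) (q : ℕ)
    (h : ∀ i : ℕ, i ≤ n →
      Subsingleton (Coh.HH (CohB1.ProjSpace n R) (tw n R F (a + i)) (q + (n - i)))) :
    Subsingleton (Coh.HH (CohB1.ProjSpace n R) (tw n R F (a + (n + 1 : ℕ))) q) := by
  have hP := subsingleton_HH_cycles n R a F q (n + 1) le_rfl (fun j hj => h j (by omega))
  rw [show q + (n + 1 - (n + 1)) = q by omega] at hP
  have h3 : Subsingleton (Coh.HH (CohB1.ProjSpace n R)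
      ((tensorRight F).obj ((KPn n R a).cycles (n + 1 + 1))) q) :=
    subsingleton_HH_of_isZero R
      ((tensorRight F).map_isZero (isZero_cycles_of_le n R a (n + 1 + 1) (by omega))) _
  have h2 := subsingleton_HH_X₂ _ (shortExact_cyclesSC_tensor_KPn n R a F (n + 1)) q hP h3
  exact subsingleton_HH_tw_of_tensor_KPn_X n R a F (n + 1) q le_rfl h2

end Pn

end Groth.Agent.Lib.Lead.Koszul
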