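import Groth.Agent.Lib.Lead.Koszul.GG
import Groth.Agent.Lib.Helper22.Cech.AffineMorphism
import Groth.Agent.Lib.Helper5.ProjFormulaLF
import Groth.Agent.Lib.Helper5.LocBasisScheme
import Groth.Agent.Lib.Helper12.ClosedPullbackEpi
import Groth.Agent.Lib.Helper29.QCohPush
import Groth.Agent.Lib.Helper29.QCohPullback
import Groth.Agent.Lib.Helper29.QCohLocFree
import Groth.Agent.S1642
import Groth.Prelude.Def_Pic13

/-!
# Transfer of cohomology and global generation along a closed immersion into `P^n`
-/

set_option autoImplicit false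

universe u

open CategoryTheory CategoryTheory.Limits AlgebraicGeometry Opposite MonoidalCategory

namespace Groth.Agent.Lib.Lead.Koszul

open Groth.Agent.Lib.Helper29.QCoh Groth.Agent.Lib.Lead.TwistExact Groth.Agent.Lib.Lead.LinLES
  Groth.Agent.Lib.Lead.Pn

section General

variable {X Y : Scheme.{u}} (i : X ⟶ Y)

/-- The projection formula `i_* F ⊗ E ≅ i_* (F ⊗ i^* E)` for `E` finite locally free. -/
lemma nonempty_projFormula (E : Y.Modules) (hE : FlatMod.IsFinLocFree E) (F : X.Modules) :
    Nonempty (CohB1.tensorMod ((Scheme.Modules.pushforward i).obj F) E ≅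
      (Scheme.Modules.pushforward i).obj
        (CohB1.tensorMod F ((Scheme.Modules.pullback i).obj E))) :=
  ⟨Groth.Agent.Lib.Helper5.ProjFormulaLF.PiIso i E F
    (Groth.Agent.Lib.Helper5.LocBasisScheme.hasLocBases_of_isFinLocFree E hE)⟩

/-- Cohomology of `F ⊗ i^* E` on `X` vanishes iff cohomology of `i_* F ⊗ E` on `Y` does, for an
affine morphism `i`. -/
lemma subsingleton_HH_iff_push [IsAffineHom i] (E : Y.Modules) (hE : FlatMod.IsFinLocFree E)
    [E.IsQuasicoherent] (F : X.Modules) [F.IsQuasicoherent] (q : ℕ) :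
    Subsingleton (Coh.HH X (CohB1.tensorMod F ((Scheme.Modules.pullback i).obj E)) q) ↔
      Subsingleton (Coh.HH Y (CohB1.tensorMod ((Scheme.Modules.pushforward i).obj F) E) q) := by
  obtain ⟨e⟩ := nonempty_projFormula i E hE F
  obtain ⟨a⟩ := Groth.Agent.Lib.Helper22.Cech.nonempty_HH_addEquiv_HH_push i
    (CohB1.tensorMod F ((Scheme.Modules.pullback i).obj E)) q
  constructor
  · intro h
    haveI := h
    have h2 : Subsingleton (Coh.HH Y ((Scheme.Modules.pushforward i).obj
        (CohB1.tensorMod F ((Scheme.Modules.pullback i).obj E))) q) := a.symm.toEquiv.subsingleton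
    exact subsingleton_HH_of_iso e.symm q h2
  · intro h
    haveI := subsingleton_HH_of_iso e q h
    exact a.toEquiv.subsingleton

/-- Global generation descends along a closed immersion. -/
lemma isGloballyGenerated_of_push [IsClosedImmersion i] (M : X.Modules)
    (h : Curv2.IsGloballyGenerated ((Scheme.Modules.pushforward i).obj M)) :
    Curv2.IsGloballyGenerated M := by
  obtain ⟨ι, p, hp⟩ := h
  have h1 := (@H12S19488.main _ _ i _ (freeM Y ι) M p hp).1
  exact ⟨ι, (pullbackFreeIso i ι).inv ≫
    ((Scheme.Modules.pullbackPushforwardAdjunction i).homEquiv (freeM Y ι) M).symm p,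
    @epi_comp _ _ _ _ _ _ inferInstance _ h1⟩

end General

section Pn

variable (n : ℕ) (k : Type u) [Field k] {X : Scheme.{u}} (i : X ⟶ CohB1.ProjSpace n k)

lemma isFinLocFree_twist (R : Type u) [CommRing R] (d : ℤ) :
    FlatMod.IsFinLocFree (Twist.twistProjSpace n R d) :=
  isFinLocFree_of_isFinLocFreeOfRank
    ((isInvertible_iff_isFinLocFreeOfRank_one _).mp (isInvertible_twistProjSpace n R d))

/-- `H^q(X, F(d)) = 0` iff `H^q(P^n, (i_* F)(d)) = 0`. -/
lemma subsingleton_HH_twistOn_iff [IsAffineHom i] (F : X.Modules) [F.IsQuasicoherent] (d : ℤ)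
    (q : ℕ) :
    Subsingleton (Coh.HH X (Pic13.twistOn k i F d) q) ↔
      Subsingleton (Coh.HH (CohB1.ProjSpace n k)
        (tw n k ((Scheme.Modules.pushforward i).obj F) d) q) :=
  haveI : (Twist.twistProjSpace n k d).IsQuasicoherent := twist_isQuasicoherent n k d
  subsingleton_HH_iff_push i (Twist.twistProjSpace n k d) (isFinLocFree_twist n k d) F q

variable [IsClosedImmersion i]

lemma isCoh_push (F : X.Modules) (hF : Coh.IsCoh F) :
    Coh.IsCoh ((Scheme.Modules.pushforward i).obj F) := by
  haveI : F.IsQuasicoherent := hF.1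
  haveI : F.IsFiniteType := hF.2
  exact ⟨isQuasicoherent_pushforward_of_isAffineHom i F, isFiniteType_pushforward_of_isFinite i F⟩

/-- A module on a closed subscheme of `P^n_k` which is regular in the sense of `Pic13` has regular
pushforward. -/
lemma isMRegular_push (F : X.Modules) (hF : Coh.IsCoh F) (m : ℤ)
    (h : Pic13.IsMRegular k i F m) (r : ℤ) (hr : m ≤ r) :
    Curv2.IsMRegular k n ((Scheme.Modules.pushforward i).obj F) r := by
  haveI : F.IsQuasicoherent := hF.1
  induction r, hr using Int.le_induction with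
  | base => exact fun q hq1 _ => (subsingleton_HH_twistOn_iff n k i F (m - q) q).1 (h q hq1)
  | succ r hr ih => exact Groth.Agent.S1642.result k n _ (isCoh_push n k i F hF) r ih

/-- **Castelnuovo–Mumford on a closed subscheme of `P^n_k`.** -/
theorem regular_and_gg_of_closedSub (F : X.Modules) (hF : Coh.IsCoh F) (m : ℤ)
    (h : Pic13.IsMRegular k i F m) (n' : ℤ) (hn' : m ≤ n') :
    Pic13.IsMRegular k i F n' ∧ Curv2.IsGloballyGenerated (Pic13.twistOn k i F n') := by
  haveI : F.IsQuasicoherent := hF.1
  have hFt := isCoh_push n k i F hF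
  haveI := hFt.1
  haveI := hFt.2
  have hreg := isMRegular_push n k i F hF m h
  constructor
  · intro q hq1
    refine (subsingleton_HH_twistOn_iff n k i F (n' - q) q).2 ?_
    by_cases hqn : q ≤ n
    · exact hreg n' hn' q hq1 hqn
    · have hqc : Coh.IsQCoh (tw n k ((Scheme.Modules.pushforward i).obj F) (n' - q)) :=
        isQuasicoherent_tw n k _ (n' - q)
      exact @Groth.Agent.S0022.result n k _ _ hqc q (by omega)
  · have hgg : Curv2.IsGloballyGenerated (tw n k ((Scheme.Modules.pushforward i).obj F) n') :=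
      isGloballyGenerated_tw_of_regular n k _ n'
        (fun r hr p hp1 hpn => hreg r (by omega) p hp1 hpn)
    obtain ⟨e⟩ := nonempty_projFormula i (Twist.twistProjSpace n k n')
      (isFinLocFree_twist n k n') F
    exact isGloballyGenerated_of_push i _ (isGloballyGenerated_of_iso e hgg)

end Pn

end Groth.Agent.Lib.Lead.Koszul
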