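import Groth.Agent.Lib.Lead.LinLES.Biprod

/-!
# The Koszul complex on `P^n` tensored with a module, and Mumford's lemma

For a module `F` on `P^n_R`: if `H^{q+(n-i)}(F(a+i)) = 0` for `0 ≤ i ≤ n` then `H^q(F(a+n+1)) = 0`.
-/

set_option autoImplicit false

universe u

open CategoryTheory CategoryTheory.Limits AlgebraicGeometry Opposite

namespace Groth.Agent.Lib.Lead.Koszul

open Groth.Agent.Lib.Helper29.QCoh Groth.Agent.Lib.Lead.LinLES

attribute [local instance] CategoryTheory.Abelian.hasFiniteBiproducts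

section General

variable (A : Type u) [CommRing A] {X : Scheme.{u}} [X.Over (Spec (CommRingCat.of A))]

lemma HHlin_zero {M N : X.Modules} (q : ℕ) (x : Coh.HH X M q) :
    Canon.HHlin A (0 : M ⟶ N) q x = 0 := by
  change Sheaf.H.map ((toSheafAb X).map (0 : M ⟶ N)) q x = 0
  rw [CategoryTheory.Functor.map_zero]
  change ((Sheaf.functorH _ q).map (0 : Coh.toAb M ⟶ Coh.toAb N)).hom x = 0
  rw [CategoryTheory.Functor.map_zero]
  rfl

include A

lemma subsingleton_HH_of_isZero {M : X.Modules} (h : IsZero M) (q : ℕ) :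
    Subsingleton (Coh.HH X M q) := by
  refine subsingleton_of_forall_eq 0 fun x => ?_
  rw [← HHlin_id A M q x, h.eq_of_src (𝟙 M) 0, HHlin_zero]

lemma subsingleton_HH_biproduct {ι : Type} [Fintype ι] (L : ι → X.Modules) (q : ℕ)
    (h : ∀ j, Subsingleton (Coh.HH X (L j) q)) :
    Subsingleton (Coh.HH X (⨁ L : X.Modules) q) := by
  refine subsingleton_of_forall_eq 0 fun x => ?_
  rw [HH_total A L q x]
  apply Finset.sum_eq_zero
  intro j _
  rw [@Subsingleton.elim _ (h j) (Canon.HHlin A (biproduct.π L j) q x) 0, map_zero]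

lemma subsingleton_HH_summand {ι : Type} [Fintype ι] (L : ι → X.Modules) (q : ℕ) (j : ι)
    (h : Subsingleton (Coh.HH X (⨁ L : X.Modules) q)) : Subsingleton (Coh.HH X (L j) q) := by
  refine subsingleton_of_forall_eq 0 fun x => ?_
  have : x = Canon.HHlin A (biproduct.π L j) q (Canon.HHlin A (biproduct.ι L j) q x) := by
    rw [← HHlin_comp, biproduct.ι_π_self, HHlin_id]
  rw [this, @Subsingleton.elim _ h (Canon.HHlin A (biproduct.ι L j) q x) 0, map_zero]

end General

/-- Vanishing of `H^q` of the middle term of a short exact sequence from vanishing for the outer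
terms. -/
theorem subsingleton_HH_X₂ {X : Scheme.{u}} (S : ShortComplex X.Modules) (hS : S.ShortExact)
    (q : ℕ) (h₁ : Subsingleton (Coh.HH X S.X₁ q)) (h₃ : Subsingleton (Coh.HH X S.X₃ q)) :
    Subsingleton (Coh.HH X S.X₂ q) := by
  refine subsingleton_of_forall_eq 0 fun x₂ => ?_
  have h0 : (Abelian.Ext.comp x₂ (Abelian.Ext.mk₀ (abMap S.g)) (add_zero q) :
      Coh.HH X S.X₃ q) = 0 := Subsingleton.elim _ _
  obtain ⟨x₁, hx₁⟩ := Abelian.Ext.covariant_sequence_exact₂ _ (abS_shortExact S hS) x₂ h0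
  have hx1 : (show Coh.HH X S.X₁ q from x₁) = 0 := Subsingleton.elim _ _
  have hx1' : x₁ = 0 := hx1
  rw [← hx₁, hx1', Abelian.Ext.zero_comp]
  rfl

end Groth.Agent.Lib.Lead.Koszul
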