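import Groth.Agent.Lib.Lead.Koszul.Mult
import Groth.Agent.Lib.Helper29.SerreA
import Groth.Agent.Lib.Helper29.Twist4
import Groth.Agent.Lib.Helper29.TwistPn

/-!
# A `0`-regular module on projective space is globally generated
-/

set_option autoImplicit false

universe u

open CategoryTheory CategoryTheory.Limits AlgebraicGeometry Opposite MonoidalCategory

namespace Groth.Agent.Lib.Lead.Koszul

open Groth.Agent.Lib.Helper29.QCoh Groth.Agent.Lib.Lead.TwistExact Groth.Agent.Lib.Lead.LinLES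
  Groth.Agent.Lib.Lead.Pn Groth.Agent.Lib.Helper17.Tensor Groth.Agent.Lib.Helper17.IHom

section General

variable {X : Scheme.{u}}

/-- A morphism vanishing on global sections kills every morphism from a free module. -/
lemma free_comp_eq_zero {M N : X.Modules} (f : M ⟶ N)
    (hf : ∀ s : Γ(M, ⊤), f.app ⊤ s = 0) {ι : Type u} (p : freeM X ι ⟶ M) : p ≫ f = 0 := by
  refine free_hom_ext _ _ fun i => ?_
  rw [comp_zero, ← Category.assoc]
  refine hom_ext_of_sval _ _ ?_
  rw [sval_comp, hf]
  rfl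

/-- The cokernel projection of the evaluation map vanishes on global sections. -/
lemma cokernel_π_homOfSections_app_top (G : X.Modules) (s : Γ(G, ⊤)) :
    (cokernel.π (homOfSections G (id : Γ(G, ⊤) → Γ(G, ⊤)))).app ⊤ s = 0 := by
  have h1 : s = (ιFreeM X s ≫ homOfSections G id).app ⊤ (toUnit 1) :=
    (ι_homOfSections_app_one G id s).symm
  rw [h1]
  change ((ιFreeM X s ≫ homOfSections G id) ≫ cokernel.π _).app ⊤ (toUnit 1) = 0
  rw [Category.assoc, cokernel.condition, comp_zero]
  rfl

/-- The sectionwise whiskering of a morphism vanishing on global sections vanishes on global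
sections. -/
lemma whiskerRight_app_top_eq_zero {G Q : X.Modules} (π : G ⟶ Q)
    (hπ : ∀ s : Γ(G, ⊤), π.app ⊤ s = 0) (N : X.Modules)
    (p : (toPMod G ⊗ toPMod N : PMod X.sheaf).presheaf.obj (op ⊤)) :
    (((PresheafOfModules.toPresheaf _).map (pv π ▷ toPMod N)).app (op ⊤)).hom p = 0 := by
  have h0 : (pv π).app (op ⊤) = 0 := by
    ext s
    exact hπ s
  have h1 : (pv π ▷ toPMod N).app (op ⊤) = 0 := by
    rw [PresheafOfModules.whiskerRight_app, h0, MonoidalPreadditive.zero_whiskerRight]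
    rfl
  have h2 := congrArg (fun φ => φ.hom p) h1
  exact h2

/-- `π ⊗ N` on global sections of the sheafified tensor product, in terms of the presheaf tensor
product. -/
lemma tensorBi_map_app_unTop {G Q : X.Modules} (π : G ⟶ Q) (N : X.Modules)
    (p : (toPMod G ⊗ toPMod N : PMod X.sheaf).presheaf.obj (op ⊤)) :
    ((tensorRight N).map π).app ⊤ (unTop _ p) =
      unTop _ ((((PresheafOfModules.toPresheaf _).map (pv π ▷ toPMod N)).app (op ⊤)).hom p) :=
  (unTop_naturality (pv π ▷ toPMod N) p).symm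

end General

section Pn

variable (n : ℕ) (R : Type u) [CommRing R]

/-- If `π : G ⟶ Q` vanishes on global sections and `G` is `0`-regular, then `π ⊗ O(1)` vanishes on
global sections. -/
theorem tensorRight_map_app_top_eq_zero {G Q : (CohB1.ProjSpace n R).Modules} (π : G ⟶ Q)
    (hπ : ∀ s : Γ(G, ⊤), π.app ⊤ s = 0)
    (h : ∀ p : ℕ, 1 ≤ p → p ≤ n →
      Subsingleton (Coh.HH (CohB1.ProjSpace n R) (tw n R G (0 - p)) p))
    (s : Γ(tw n R G 1, ⊤)) :
    ((tensorRight (Twist.twistProjSpace n R 1)).map π).app ⊤ s = 0 := by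
  let P₀ : PMod (CohB1.ProjSpace n R).sheaf := toPMod G ⊗ toPMod (Twist.twistProjSpace n R 0)
  have hsh : Presheaf.IsSheaf (Opens.grothendieckTopology (CohB1.ProjSpace n R)) P₀.presheaf := by
    obtain ⟨e⟩ := nonempty_unit_iso_twist_zero (CohB1.polyGrading n R)
    exact isSheaf_tensorPre_of_iso_unit G _ e
  have h0 := unTop_surjective_of_isSheaf P₀ hsh
  obtain ⟨t, ht⟩ := exists_decomposition' n R G 0 1 (by norm_num) h s
  rw [ht, map_sum]
  refine Finset.sum_eq_zero fun l _ => ?_
  obtain ⟨p, hp⟩ := h0 (t l)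
  have hnat : (tensorLeft G).map (mulX n R l 0 1 (by norm_num)) ≫
      (tensorRight (Twist.twistProjSpace n R 1)).map π =
      (tensorRight (Twist.twistProjSpace n R 0)).map π ≫
        (tensorLeft Q).map (mulX n R l 0 1 (by norm_num)) :=
    ((ModSite.tensorBi (CohB1.ProjSpace n R).sheaf).map π).naturality
      (mulX n R l 0 1 (by norm_num))
  change (((tensorLeft G).map (mulX n R l 0 1 _)) ≫
    ((tensorRight (Twist.twistProjSpace n R 1)).map π)).app ⊤ (t l) = 0
  rw [hnat]
  change ((tensorLeft Q).map _).app ⊤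
    (((tensorRight (Twist.twistProjSpace n R 0)).map π).app ⊤ (t l)) = 0
  have e1 : ((tensorRight (Twist.twistProjSpace n R 0)).map π).app ⊤ (unTop P₀ p) = 0 := by
    have e2 := tensorBi_map_app_unTop π (Twist.twistProjSpace n R 0) p
    rw [whiskerRight_app_top_eq_zero π hπ] at e2
    exact e2.trans (AddMonoidHom.map_zero _)
  rw [← hp, e1, map_zero]

/-- `Q ⊗ O(1) = 0` implies `Q = 0`. -/
lemma isZero_of_isZero_tw_one (Q : (CohB1.ProjSpace n R).Modules) (hQ : IsZero (tw n R Q 1)) :
    IsZero Q := by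
  obtain ⟨e⟩ := nonempty_tw_tw_iso n R Q 1 (-1)
  obtain ⟨e0⟩ := nonempty_unit_iso_twist_zero (CohB1.polyGrading n R)
  have h1 : IsZero (tw n R (tw n R Q 1) (-1)) :=
    (tensorRight (Twist.twistProjSpace n R (-1))).map_isZero hQ
  have h2 : IsZero (tw n R Q (1 + -1)) := h1.of_iso e.symm
  rw [show (1 : ℤ) + -1 = 0 by norm_num] at h2
  exact h2.of_iso ((tensorCongr (Iso.refl Q) e0.symm ≪≫ SecTwist.unitorR Q).symm)

/-- **Castelnuovo–Mumford, the inductive step for global generation**: if `G` is `0`-regular and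
`G(1)` is globally generated, then `G` is globally generated. -/
theorem isGloballyGenerated_of_regular (G : (CohB1.ProjSpace n R).Modules)
    (h : ∀ p : ℕ, 1 ≤ p → p ≤ n →
      Subsingleton (Coh.HH (CohB1.ProjSpace n R) (tw n R G (0 - p)) p))
    (h1 : Curv2.IsGloballyGenerated (tw n R G 1)) : Curv2.IsGloballyGenerated G := by
  obtain ⟨ι, p, hp⟩ := h1
  let ev := homOfSections G (id : Γ(G, ⊤) → Γ(G, ⊤))
  let π := cokernel.π ev
  have hπ : ∀ s : Γ(G, ⊤), π.app ⊤ s = 0 := cokernel_π_homOfSections_app_top G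
  have hz : p ≫ (tensorRight (Twist.twistProjSpace n R 1)).map π = 0 :=
    free_comp_eq_zero _ (tensorRight_map_app_top_eq_zero n R π hπ h) p
  have hz' : (tensorRight (Twist.twistProjSpace n R 1)).map π = 0 :=
    (cancel_epi p).1 (hz.trans comp_zero.symm)
  haveI : (tensorRight (Twist.twistProjSpace n R 1)).IsLeftAdjoint :=
    Groth.Agent.Lib.Helper17.Tensor.isLeftAdjoint_flip_obj (O := (CohB1.ProjSpace n R).sheaf) _
  haveI : Epi π := inferInstanceAs (Epi (cokernel.π ev))
  haveI : Epi ((tensorRight (Twist.twistProjSpace n R 1)).map π) :=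
    (tensorRight (Twist.twistProjSpace n R 1)).map_epi π
  have hQ1 : IsZero ((tensorRight (Twist.twistProjSpace n R 1)).obj (cokernel ev)) :=
    IsZero.of_epi_eq_zero _ hz'
  have hQ : IsZero (cokernel ev) := isZero_of_isZero_tw_one n R _ hQ1
  have hev : Epi ev := Abelian.epi_of_cokernel_π_eq_zero _ (hQ.eq_of_tgt _ _)
  exact ⟨Γ(G, ⊤), ev, hev⟩

/-- **Serre's theorem A on projective space**: `F(r)` is globally generated for `r ≫ 0`. -/
theorem exists_isGloballyGenerated_tw (F : (CohB1.ProjSpace n R).Modules)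
    [hq : F.IsQuasicoherent] [hf : F.IsFiniteType] :
    ∃ n₀ : ℕ, ∀ r : ℕ, n₀ ≤ r → Curv2.IsGloballyGenerated (tw n R F (r : ℤ)) := by
  have hcov := projSpace_degree_one_cover n R
  have hA : CohB1.IsAmple (Twist.twist (CohB1.polyGrading n R) 1) :=
    isAmple_twist_one_of_cover hcov
  obtain ⟨n₀, hn₀⟩ := @exists_isGloballyGenerated_twist (Proj (CohB1.polyGrading n R)) _ hA F hq hf
  obtain ⟨-, -, hpow⟩ := twist_invertible_and_tensor (iSup_basicOpen_eq_top_of_forall hcov)
  refine ⟨n₀, fun r hr => ?_⟩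
  obtain ⟨ψ⟩ := hpow r
  exact isGloballyGenerated_of_iso (tensorCongr (Iso.refl F) ψ.symm) (hn₀ r hr)

/-- **Castelnuovo–Mumford**: if `F` is `r`-regular for all `r ≥ m`, then `F(m)` is globally
generated. -/
theorem isGloballyGenerated_tw_of_regular (F : (CohB1.ProjSpace n R).Modules) [F.IsQuasicoherent]
    [F.IsFiniteType] (m : ℤ)
    (hreg : ∀ r : ℤ, m ≤ r → ∀ p : ℕ, 1 ≤ p → p ≤ n →
      Subsingleton (Coh.HH (CohB1.ProjSpace n R) (tw n R F (r - p)) p)) :
    Curv2.IsGloballyGenerated (tw n R F m) := by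
  obtain ⟨n₀, hn₀⟩ := exists_isGloballyGenerated_tw n R F
  have key : ∀ d : ℕ, ∀ r : ℤ, m ≤ r → (n₀ : ℤ) ≤ r + d →
      Curv2.IsGloballyGenerated (tw n R F r) := by
    intro d
    induction d with
    | zero =>
      intro r hmr hr
      have hr0 : 0 ≤ r := by omega
      obtain ⟨r', rfl⟩ := Int.eq_ofNat_of_zero_le hr0
      exact hn₀ r' (by omega)
    | succ d ih =>
      intro r hmr hr
      have h1 := ih (r + 1) (by omega) (by push_cast at hr ⊢; omega)
      obtain ⟨e⟩ := nonempty_tw_tw_iso n R F r 1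
      refine isGloballyGenerated_of_regular n R (tw n R F r) (fun p hp1 hpn => ?_)
        (isGloballyGenerated_of_iso e.symm h1)
      obtain ⟨e'⟩ := nonempty_tw_tw_iso n R F r (0 - p)
      refine subsingleton_HH_of_iso e'.symm p ?_
      rw [show r + (0 - (p : ℤ)) = r - p by ring]
      exact hreg r hmr p hp1 hpn
  exact key (n₀ + m.natAbs) m le_rfl (by omega)

end Pn

end Groth.Agent.Lib.Lead.Koszul
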