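import Groth.Agent.Lib.Lead.Koszul.Resol

/-!
# Serre vanishing on projective space over a Noetherian ring
-/

set_option autoImplicit false

universe u

open CategoryTheory CategoryTheory.Limits AlgebraicGeometry Opposite MonoidalCategory

namespace Groth.Agent.Lib.Lead.Koszul

open Groth.Agent.Lib.Helper29.QCoh Groth.Agent.Lib.Lead.TwistExact Groth.Agent.Lib.Lead.LinLES
  Groth.Agent.Lib.Lead.Pn

attribute [local instance] CategoryTheory.Abelian.hasFiniteBiproducts

variable (n : ℕ) (R : Type u) [CommRing R] [IsNoetherianRing R]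

theorem exists_vanishing_tw_aux (c : ℕ) :
    ∀ M : (CohB1.ProjSpace n R).Modules, Coh.IsCoh M →
      ∃ j₀ : ℤ, ∀ j : ℤ, j₀ ≤ j → ∀ i : ℕ, 1 ≤ i → n + 1 ≤ i + c →
        Subsingleton (Coh.HH (CohB1.ProjSpace n R) (tw n R M j) i) := by
  induction c with
  | zero =>
    intro M hM
    refine ⟨0, fun j _ i _ hi => ?_⟩
    haveI : M.IsQuasicoherent := hM.1
    have hq : Coh.IsQCoh (tw n R M j) := isQuasicoherent_tw n R M j
    exact @Groth.Agent.S0022.result n R _ (tw n R M j) hq i (by omega)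
  | succ c ih =>
    intro M hM
    obtain ⟨r, d, φ, hφ⟩ := Groth.Agent.S0846.result (CohB1.polyGrading n R) M hM
    let L : Fin r → (CohB1.ProjSpace n R).Modules := fun l => Twist.twistProjSpace n R (d l)
    let φ₀ : (∐ L : (CohB1.ProjSpace n R).Modules) ⟶ M := φ
    haveI : Epi φ₀ := hφ
    have hE : Coh.IsCoh (∐ L : (CohB1.ProjSpace n R).Modules) := by
      have h := isCoh_biproduct L (fun l => isCoh_twist n R (d l))
      haveI := h.1
      haveI := h.2
      exact ⟨isQuasicoherent_of_iso (biproduct.isoCoproduct L),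
        isFiniteType_of_iso (biproduct.isoCoproduct L)⟩
    have hK : Coh.IsCoh (kernel φ₀) := (Groth.Agent.S9514.result _ hE hM φ₀).1
    obtain ⟨j₁, hj₁⟩ := ih (kernel φ₀) hK
    obtain ⟨B, hB⟩ := (Finset.univ.image (fun l => -d l)).exists_le
    refine ⟨max j₁ B, fun j hj i hi1 hi => ?_⟩
    have hS' := shortExact_map_tw n R (kerSC n R φ₀) (kerSC_shortExact n R φ₀) j
    refine subsingleton_HH_X₃ _ hS' i ?_ ?_
    · refine subsingleton_HH_tw_coprod n R L j i (fun l => ?_)
      have hl : -d l ≤ B := hB _ (Finset.mem_image_of_mem _ (Finset.mem_univ l))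
      exact subsingleton_HH_tw_twist n R (d l) j i (by omega) (by omega)
    · exact hj₁ j (by omega) (i + 1) (by omega) (by omega)

/-- **Serre vanishing on `P^n_R`**: for a coherent `F`, `H^i(F(j)) = 0` for all `i ≥ 1` and
`j ≫ 0`. -/
theorem exists_vanishing_tw (M : (CohB1.ProjSpace n R).Modules) (hM : Coh.IsCoh M) :
    ∃ j₀ : ℤ, ∀ j : ℤ, j₀ ≤ j → ∀ i : ℕ, 1 ≤ i →
      Subsingleton (Coh.HH (CohB1.ProjSpace n R) (tw n R M j) i) := by
  obtain ⟨j₀, h⟩ := exists_vanishing_tw_aux n R n M hM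
  exact ⟨j₀, fun j hj i hi => h j hj i hi (by omega)⟩

end Groth.Agent.Lib.Lead.Koszul
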