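import Groth.Agent.Lib.Lead.Koszul.GG
import Groth.Agent.Lib.Lead.Pn.Finite
import Groth.Agent.Lib.Helper29.QCohDescent

/-!
# Regularity and linear presentations on projective space
-/

set_option autoImplicit false

universe u

open CategoryTheory CategoryTheory.Limits AlgebraicGeometry Opposite MonoidalCategory

namespace Groth.Agent.Lib.Lead.Koszul

open Groth.Agent.Lib.Helper29.QCoh Groth.Agent.Lib.Lead.TwistExact Groth.Agent.Lib.Lead.LinLES
  Groth.Agent.Lib.Lead.Pn Groth.Agent.Lib.Helper17.Tensor Groth.Agent.Lib.Helper17.IHom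

attribute [local instance] CategoryTheory.Abelian.hasFiniteBiproducts

section General

variable {X : Scheme.{u}}

/-- Vanishing of `H^{q+1}` of the first term of a short exact sequence from vanishing of `H^q` of
the third term and `H^{q+1}` of the middle term. -/
theorem subsingleton_HH_X₁ (S : ShortComplex X.Modules) (hS : S.ShortExact)
    (q : ℕ) (h₃ : Subsingleton (Coh.HH X S.X₃ q)) (h₂ : Subsingleton (Coh.HH X S.X₂ (q + 1))) :
    Subsingleton (Coh.HH X S.X₁ (q + 1)) := by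
  refine subsingleton_of_forall_eq 0 fun x₁ => ?_
  have h0 : (Abelian.Ext.comp x₁ (Abelian.Ext.mk₀ (abMap S.f)) (add_zero (q + 1)) :
      Coh.HH X S.X₂ (q + 1)) = 0 := Subsingleton.elim _ _
  obtain ⟨x₃, hx₃⟩ := Abelian.Ext.covariant_sequence_exact₁ _
    (Groth.Agent.Lib.Lead.LinLES.abS_shortExact S hS) x₁ h0 rfl
  have hx3 : (show Coh.HH X S.X₃ q from x₃) = 0 := Subsingleton.elim _ _
  have hx3' : x₃ = 0 := hx3
  rw [← hx₃, hx3', Abelian.Ext.zero_comp]
  rfl

/-- Vanishing of `H^1` of the first term of a short exact sequence from surjectivity on global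
sections and vanishing of `H^1` of the middle term. -/
theorem subsingleton_HH_one_X₁ (S : ShortComplex X.Modules) (hS : S.ShortExact)
    (hsurj : Function.Surjective (S.g.val.app (op (⊤ : X.Opens))).hom)
    (h₂ : Subsingleton (Coh.HH X S.X₂ 1)) :
    Subsingleton (Coh.HH X S.X₁ 1) := by
  refine subsingleton_of_forall_eq 0 fun x₁ => ?_
  have hS' := Groth.Agent.Lib.Lead.LinLES.abS_shortExact S hS
  have h0 : (Abelian.Ext.comp x₁ (Abelian.Ext.mk₀ (abMap S.f)) (add_zero 1) :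
      Coh.HH X S.X₂ 1) = 0 := Subsingleton.elim _ _
  obtain ⟨x₃, hx₃⟩ := Abelian.Ext.covariant_sequence_exact₁ _ hS' x₁ h0 (n₀ := 0) rfl
  have hT : IsTerminal (⊤ : X.Opens) := isTerminalTop
  obtain ⟨c₂, hc₂⟩ := hsurj (Sheaf.H.equiv₀ (Coh.toAb S.X₃) hT x₃)
  let x₂ : Sheaf.H (Coh.toAb S.X₂) 0 := (Sheaf.H.equiv₀ (Coh.toAb S.X₂) hT).symm c₂
  have hnat := Sheaf.H.equiv₀_naturality (F := Coh.toAb S.X₂) (G := Coh.toAb S.X₃) hT
    ((toSheafAb X).map S.g) x₂
  have e1 : (Sheaf.H.equiv₀ (Coh.toAb S.X₂) hT) x₂ = c₂ := AddEquiv.apply_symm_apply _ _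
  rw [e1] at hnat
  have h3 : x₃ = Abelian.Ext.comp (Y := (abS S).X₂) x₂ (Abelian.Ext.mk₀ (abS S).g) (add_zero 0) :=
    (Sheaf.H.equiv₀ (Coh.toAb S.X₃) hT).injective (hc₂.symm.trans hnat)
  subst h3
  rw [← hx₃, Abelian.Ext.comp_assoc_of_second_deg_zero, hS'.comp_extClass, Abelian.Ext.comp_zero]
  rfl

end General

section Pn

variable (n : ℕ) (R : Type u) [CommRing R]

/-- Cohomology of `O(a)(j)`. -/
lemma subsingleton_HH_tw_twist (a j : ℤ) (q : ℕ) (h₀ : ¬ (q = 0 ∧ 0 ≤ a + j))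
    (hn : ¬ (q = n ∧ a + j ≤ -((n : ℤ) + 1))) :
    Subsingleton (Coh.HH (CohB1.ProjSpace n R) (tw n R (Twist.twistProjSpace n R a) j) q) := by
  obtain ⟨e⟩ := nonempty_twist_tensor_iso n R a j
  exact subsingleton_HH_of_iso e.symm q (Groth.Agent.S0844.result R n (a + j) q h₀ hn)

/-- `(∐ L)(j) ≅ ⨁ L(j)` for finite coproducts. -/
noncomputable def twCoprodIso {b : ℕ} (L : Fin b → (CohB1.ProjSpace n R).Modules) (j : ℤ) :
    tw n R (∐ L) j ≅ (⨁ fun l => tw n R (L l) j : (CohB1.ProjSpace n R).Modules) :=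
  haveI : (tensorRight (Twist.twistProjSpace n R j)).IsLeftAdjoint :=
    Groth.Agent.Lib.Helper17.Tensor.isLeftAdjoint_flip_obj (O := (CohB1.ProjSpace n R).sheaf) _
  PreservesCoproduct.iso (tensorRight (Twist.twistProjSpace n R j)) L ≪≫
    (biproduct.isoCoproduct _).symm

lemma subsingleton_HH_tw_coprod {b : ℕ} (L : Fin b → (CohB1.ProjSpace n R).Modules) (j : ℤ)
    (q : ℕ) (h : ∀ l, Subsingleton (Coh.HH (CohB1.ProjSpace n R) (tw n R (L l) j) q)) :
    Subsingleton (Coh.HH (CohB1.ProjSpace n R) (tw n R (∐ L) j) q) :=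
  subsingleton_HH_of_iso (twCoprodIso n R L j).symm q
    (subsingleton_HH_biproduct R (fun l => tw n R (L l) j) q h)

lemma isCoh_coprod_twist (b : ℕ) (a : ℤ) :
    Coh.IsCoh (∐ fun _ : Fin b => Twist.twistProjSpace n R a) := by
  have h := isCoh_biproduct (fun _ : Fin b => Twist.twistProjSpace n R a)
    (fun _ => isCoh_twist n R a)
  haveI := h.1
  haveI := h.2
  exact ⟨isQuasicoherent_of_iso (biproduct.isoCoproduct _),
    isFiniteType_of_iso (biproduct.isoCoproduct _)⟩

/-- The short exact sequence `0 → ker φ → M → F → 0` of an epimorphism. -/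
noncomputable def kerSC {M F : (CohB1.ProjSpace n R).Modules} (φ : M ⟶ F) :
    ShortComplex (CohB1.ProjSpace n R).Modules :=
  ShortComplex.mk (kernel.ι φ) φ (kernel.condition φ)

lemma kerSC_shortExact {M F : (CohB1.ProjSpace n R).Modules} (φ : M ⟶ F) [Epi φ] :
    (kerSC n R φ).ShortExact :=
  { exact := ShortComplex.exact_kernel φ
    mono_f := inferInstanceAs (Mono (kernel.ι φ))
    epi_g := inferInstanceAs (Epi φ) }

variable [IsNoetherianRing R]

/-- If `O(-m)^b → F` is an epimorphism with `(m+1)`-regular kernel, then `F` is `m`-regular. -/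
theorem regular_of_epi_coprod_twist (F : (CohB1.ProjSpace n R).Modules) (hF : Coh.IsCoh F) (m : ℤ)
    (b : ℕ) (φ : (∐ fun _ : Fin b => Twist.twistProjSpace n R (-m)) ⟶ F) [Epi φ]
    (hK : ∀ i : ℕ, 1 ≤ i → i ≤ n →
      Subsingleton (Coh.HH (CohB1.ProjSpace n R) (tw n R (kernel φ) (m + 1 - i)) i)) :
    ∀ i : ℕ, 1 ≤ i → i ≤ n →
      Subsingleton (Coh.HH (CohB1.ProjSpace n R) (tw n R F (m - i)) i) := by
  intro i hi1 hin
  have hS' := shortExact_map_tw n R (kerSC n R φ) (kerSC_shortExact n R φ) (m - i)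
  refine subsingleton_HH_X₃ _ hS' i ?_ ?_
  · exact subsingleton_HH_tw_coprod n R _ (m - i) i (fun l =>
      subsingleton_HH_tw_twist n R (-m) (m - i) i (by omega) (by omega))
  · by_cases h : i + 1 ≤ n
    · have := hK (i + 1) (by omega) h
      rw [show m + 1 - ((i + 1 : ℕ) : ℤ) = m - i by push_cast; ring] at this
      exact this
    · have hKcoh : Coh.IsCoh (kernel φ) :=
        (Groth.Agent.S9514.result _ (isCoh_coprod_twist n R b (-m)) hF φ).1
      haveI : (kernel φ).IsQuasicoherent := hKcoh.1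
      have hq : Coh.IsQCoh (tw n R (kernel φ) (m - i)) := isQuasicoherent_tw n R (kernel φ) (m - i)
      exact @Groth.Agent.S0022.result n R _ (tw n R (kernel φ) (m - i)) hq (i + 1) (by omega)

end Pn

end Groth.Agent.Lib.Lead.Koszul
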