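import Groth.Agent.Lib.Lead.Koszul.Resol
import Groth.Agent.Lib.Helper29.FinCov6
import Groth.Agent.Lib.Helper29.Twist6

/-!
# Regular modules on projective space have linear presentations
-/

set_option autoImplicit false

universe u

open CategoryTheory CategoryTheory.Limits AlgebraicGeometry Opposite MonoidalCategory

namespace Groth.Agent.Lib.Lead.Koszul

open Groth.Agent.Lib.Helper29.QCoh Groth.Agent.Lib.Lead.TwistExact Groth.Agent.Lib.Lead.LinLES
  Groth.Agent.Lib.Lead.Pn Groth.Agent.Lib.Helper17.Tensor Groth.Agent.Lib.Helper17.IHom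

attribute [local instance] CategoryTheory.Abelian.hasFiniteBiproducts

section General

variable (A : Type u) [CommRing A] {X : Scheme.{u}} [X.Over (Spec (CommRingCat.of A))]

/-- If `H^0(G)` is a finite `A`-module, finitely many global sections span all global sections
over the global functions. -/
lemma exists_fin_sections_span (G : X.Modules) [Module.Finite A (Coh.HH X G 0)] :
    ∃ (b : ℕ) (s : Fin b → Γ(G, ⊤)), ∀ t : Γ(G, ⊤), ∃ c : Fin b → Γ(X, ⊤),
      t = ∑ l, c l • s l := by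
  obtain ⟨b, x, hx⟩ := Module.Finite.exists_fin (R := A) (M := Coh.HH X G 0)
  refine ⟨b, fun l => hh0 G (x l), fun t => ?_⟩
  have ht : (hh0 G).symm t ∈ Submodule.span A (Set.range x) := by rw [hx]; trivial
  obtain ⟨c, hc⟩ := (Submodule.mem_span_range_iff_exists_fun A).1 ht
  refine ⟨fun l => (show Γ(X, ⊤) from Coh.toGlobal (X ↘ Spec (CommRingCat.of A)) (c l)), ?_⟩
  have h1 : t = hh0 G (∑ l, c l • x l) := by rw [hc, AddEquiv.apply_symm_apply]
  rw [h1, map_sum]
  refine Finset.sum_congr rfl fun l _ => ?_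
  exact hh0_smul G (Coh.toGlobal (X ↘ Spec (CommRingCat.of A)) (c l)) (x l)

end General

section Ev

variable {X : Scheme.{u}} {L : X.Modules} (e0 : unitM X ≅ L) (G : X.Modules) {b : ℕ}
  (s : Fin b → Γ(G, ⊤))

/-- The evaluation map `L^b → G` given by finitely many global sections of `G`, where
`L ≅ O_X`. -/
noncomputable def evOf : (∐ fun _ : Fin b => L) ⟶ G :=
  Sigma.desc (fun l => e0.inv ≫ homOfSection G (s l))

lemma evOf_app_top (l : Fin b) (c : Γ(X, ⊤)) :
    (evOf e0 G s).app ⊤ ((Sigma.ι (fun _ : Fin b => L) l).app ⊤ (e0.hom.app ⊤ (toUnit c))) =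
      c • s l := by
  change ((e0.hom ≫ Sigma.ι (fun _ : Fin b => L) l ≫ evOf e0 G s).app ⊤) (toUnit c) = _
  rw [evOf, Sigma.ι_desc, Iso.hom_inv_id_assoc, homOfSection_app, res_self]

lemma evOf_surjective (hs : ∀ t : Γ(G, ⊤), ∃ c : Fin b → Γ(X, ⊤), t = ∑ l, c l • s l)
    (t : Γ(G, ⊤)) : ∃ u, (evOf e0 G s).app ⊤ u = t := by
  obtain ⟨c, rfl⟩ := hs t
  refine ⟨∑ l, (Sigma.ι (fun _ : Fin b => L) l).app ⊤ (e0.hom.app ⊤ (toUnit (c l))), ?_⟩
  rw [map_sum]
  exact Finset.sum_congr rfl fun l _ => evOf_app_top e0 G s l (c l)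

lemma epi_evOf (hs : ∀ t : Γ(G, ⊤), ∃ c : Fin b → Γ(X, ⊤), t = ∑ l, c l • s l)
    (hG : Curv2.IsGloballyGenerated G) : Epi (evOf e0 G s) := by
  obtain ⟨ι, p, hp⟩ := hG
  have hπ : ∀ t : Γ(G, ⊤), (cokernel.π (evOf e0 G s)).app ⊤ t = 0 := by
    intro t
    obtain ⟨u, rfl⟩ := evOf_surjective e0 G s hs t
    change ((evOf e0 G s ≫ cokernel.π _).app ⊤) u = 0
    rw [cokernel.condition]
    rfl
  have hz : p ≫ cokernel.π (evOf e0 G s) = 0 := free_comp_eq_zero _ hπ p
  exact Abelian.epi_of_cokernel_π_eq_zero _ ((cancel_epi p).1 (hz.trans comp_zero.symm))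

end Ev

section Pn

variable (n : ℕ) (R : Type u) [CommRing R]

lemma nonempty_tw_zero_iso (Q : (CohB1.ProjSpace n R).Modules) : Nonempty (tw n R Q 0 ≅ Q) := by
  obtain ⟨e0⟩ := nonempty_unit_iso_twist_zero (CohB1.polyGrading n R)
  exact ⟨tensorCongr (Iso.refl Q) e0.symm ≪≫ SecTwist.unitorR Q⟩

lemma subsingleton_HH_coprod {b : ℕ} (L : Fin b → (CohB1.ProjSpace n R).Modules)
    (q : ℕ) (h : ∀ l, Subsingleton (Coh.HH (CohB1.ProjSpace n R) (L l) q)) :
    Subsingleton (Coh.HH (CohB1.ProjSpace n R) (∐ L) q) :=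
  subsingleton_HH_of_iso (biproduct.isoCoproduct L) q (subsingleton_HH_biproduct R L q h)

/-- The kernel of an evaluation map `O^b → G` which is surjective on global sections, for a
`0`-regular `G`, is `1`-regular. -/
theorem kernel_regular (G : (CohB1.ProjSpace n R).Modules)
    (hreg : ∀ p : ℕ, 1 ≤ p → p ≤ n →
      Subsingleton (Coh.HH (CohB1.ProjSpace n R) (tw n R G (0 - p)) p))
    {b : ℕ} (ev : (∐ fun _ : Fin b => Twist.twistProjSpace n R 0) ⟶ G) [Epi ev]
    (hsurj : ∀ t : Γ(G, ⊤), ∃ u, ev.app ⊤ u = t) :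
    ∀ i : ℕ, 1 ≤ i → i ≤ n →
      Subsingleton (Coh.HH (CohB1.ProjSpace n R) (tw n R (kernel ev) (1 - i)) i) := by
  intro i hi1 hin
  obtain ⟨q, rfl⟩ : ∃ q, i = q + 1 := ⟨i - 1, by omega⟩
  have hS := kerSC_shortExact n R ev
  rcases Nat.eq_zero_or_pos q with rfl | hq
  · obtain ⟨e⟩ := nonempty_tw_zero_iso n R (kernel ev)
    rw [show (1 : ℤ) - ((0 + 1 : ℕ) : ℤ) = 0 by norm_num]
    refine subsingleton_HH_of_iso e.symm (0 + 1) ?_
    refine subsingleton_HH_one_X₁ (kerSC n R ev) hS hsurj ?_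
    exact subsingleton_HH_coprod n R _ 1 (fun _ =>
      Groth.Agent.S0844.result R n 0 1 (by omega) (by omega))
  · have hS' := shortExact_map_tw n R (kerSC n R ev) hS (1 - ((q + 1 : ℕ) : ℤ))
    refine subsingleton_HH_X₁ _ hS' q ?_ ?_
    · have := hreg q hq (by omega)
      rw [show (0 : ℤ) - (q : ℤ) = 1 - ((q + 1 : ℕ) : ℤ) by push_cast; ring] at this
      exact this
    · exact subsingleton_HH_tw_coprod n R _ _ (q + 1) (fun l =>
        subsingleton_HH_tw_twist n R 0 _ (q + 1) (by omega) (by omega))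

/-- The kernel of a twist of an epimorphism, conjugated by isomorphisms, is the twist of the
kernel. -/
lemma nonempty_kernel_conj_iso {M G : (CohB1.ProjSpace n R).Modules} (ev : M ⟶ G) [Epi ev] (j : ℤ)
    {M' F : (CohB1.ProjSpace n R).Modules} (γ : tw n R M j ≅ M') (β : tw n R G j ≅ F) :
    Nonempty (kernel (γ.inv ≫ (tensorRight (Twist.twistProjSpace n R j)).map ev ≫ β.hom) ≅
      tw n R (kernel ev) j) := by
  have hS' := shortExact_map_tw n R (kerSC n R ev) (kerSC_shortExact n R ev) j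
  haveI := hS'.mono_f
  let e1 : kernel ((tensorRight (Twist.twistProjSpace n R j)).map ev) ≅
      (tensorRight (Twist.twistProjSpace n R j)).obj (kernel ev) :=
    IsLimit.conePointUniqueUpToIso
      (kernelIsKernel ((tensorRight (Twist.twistProjSpace n R j)).map ev)) hS'.exact.fIsKernel
  exact ⟨kernelIsIsoComp γ.inv ((tensorRight (Twist.twistProjSpace n R j)).map ev ≫ β.hom) ≪≫
    kernelCompMono ((tensorRight (Twist.twistProjSpace n R j)).map ev) β.hom ≪≫ e1⟩

variable [IsNoetherianRing R]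

/-- **Linear presentation of a regular module**: if `F` is `r`-regular for all `r ≥ m`, there is
an epimorphism `O(-m)^b → F` whose kernel is `(m+1)`-regular. -/
theorem exists_epi_coprod_twist_kernel_regular (F : (CohB1.ProjSpace n R).Modules)
    (hF : Coh.IsCoh F) (m : ℤ)
    (hreg : ∀ r : ℤ, m ≤ r → ∀ p : ℕ, 1 ≤ p → p ≤ n →
      Subsingleton (Coh.HH (CohB1.ProjSpace n R) (tw n R F (r - p)) p)) :
    ∃ (b : ℕ) (φ : (∐ fun _ : Fin b => Twist.twistProjSpace n R (-m)) ⟶ F), Epi φ ∧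
      ∀ i : ℕ, 1 ≤ i → i ≤ n →
        Subsingleton (Coh.HH (CohB1.ProjSpace n R) (tw n R (kernel φ) (m + 1 - i)) i) := by
  haveI : F.IsQuasicoherent := hF.1
  haveI : F.IsFiniteType := hF.2
  have hcohO := isCoh_twist n R m
  haveI := hcohO.1
  haveI := hcohO.2
  have hGcoh : Coh.IsCoh (tw n R F m) := ⟨inferInstance, inferInstance⟩
  have hGgg : Curv2.IsGloballyGenerated (tw n R F m) :=
    isGloballyGenerated_tw_of_regular n R F m hreg
  have hG0 : ∀ p : ℕ, 1 ≤ p → p ≤ n →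
      Subsingleton (Coh.HH (CohB1.ProjSpace n R) (tw n R (tw n R F m) (0 - p)) p) := by
    intro p hp1 hpn
    obtain ⟨e'⟩ := nonempty_tw_tw_iso n R F m (0 - p)
    refine subsingleton_HH_of_iso e'.symm p ?_
    rw [show m + (0 - (p : ℤ)) = m - p by ring]
    exact hreg m le_rfl p hp1 hpn
  haveI : Module.Finite R (Coh.HH (CohB1.ProjSpace n R) (tw n R F m) 0) :=
    module_finite_HH_of_isCoh n R _ hGcoh 0
  obtain ⟨b, s, hs⟩ := exists_fin_sections_span R (tw n R F m)
  obtain ⟨e0'⟩ := nonempty_unit_iso_twist_zero (CohB1.polyGrading n R)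
  let e0 : unitM (CohB1.ProjSpace n R) ≅ Twist.twistProjSpace n R 0 := e0'
  let ev := evOf e0 (tw n R F m) s
  haveI : Epi ev := epi_evOf e0 _ s hs hGgg
  have hK' := kernel_regular n R (tw n R F m) hG0 ev (evOf_surjective e0 _ s hs)
  haveI : (tensorRight (Twist.twistProjSpace n R (-m))).IsLeftAdjoint :=
    Groth.Agent.Lib.Helper17.Tensor.isLeftAdjoint_flip_obj (O := (CohB1.ProjSpace n R).sheaf) _
  obtain ⟨e1⟩ := nonempty_twist_tensor_iso n R 0 (-m)
  let e1' : (tensorRight (Twist.twistProjSpace n R (-m))).obj (Twist.twistProjSpace n R 0) ≅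
      Twist.twistProjSpace n R (-m) := e1 ≪≫ eqToIso (by rw [zero_add])
  let γ : tw n R (∐ fun _ : Fin b => Twist.twistProjSpace n R 0) (-m) ≅
      ∐ fun _ : Fin b => Twist.twistProjSpace n R (-m) :=
    PreservesCoproduct.iso (tensorRight (Twist.twistProjSpace n R (-m))) _ ≪≫
      Sigma.mapIso (fun _ => e1')
  obtain ⟨β1⟩ := nonempty_tw_tw_iso n R F m (-m)
  obtain ⟨β2⟩ := nonempty_tw_zero_iso n R F
  let β : tw n R (tw n R F m) (-m) ≅ F := β1 ≪≫ eqToIso (by rw [add_neg_cancel]) ≪≫ β2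
  refine ⟨b, γ.inv ≫ (tensorRight (Twist.twistProjSpace n R (-m))).map ev ≫ β.hom, ?_, ?_⟩
  · have h1 : Epi ((tensorRight (Twist.twistProjSpace n R (-m))).map ev) :=
      (tensorRight (Twist.twistProjSpace n R (-m))).map_epi ev
    have h2 : Epi ((tensorRight (Twist.twistProjSpace n R (-m))).map ev ≫ β.hom) :=
      @epi_comp _ _ _ _ _ _ h1 β.hom inferInstance
    exact @epi_comp _ _ _ _ _ γ.inv inferInstance _ h2
  · intro i hi1 hin
    obtain ⟨κ⟩ := nonempty_kernel_conj_iso n R ev (-m) γ β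
    obtain ⟨ε⟩ := nonempty_tw_tw_iso n R (kernel ev) (-m) (m + 1 - i)
    have h1 := hK' i hi1 hin
    rw [show (1 : ℤ) - i = -m + (m + 1 - i) by ring] at h1
    have h2 := subsingleton_HH_of_iso ε.symm i h1
    exact subsingleton_HH_of_iso
      ((tensorRight (Twist.twistProjSpace n R (m + 1 - i))).mapIso κ.symm) i h2

end Pn

end Groth.Agent.Lib.Lead.Koszul
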