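import Groth.Agent.Lib.Lead.Koszul.Family

/-!
# The Koszul complex attached to commuting maps in a preadditive category

`KData 𝒞 I`: objects `M i` and commuting morphisms `X l i : M i ⟶ M (i + 1)` for `l : I`.
`KX D i = ⨁_{S ⊆ I, |S| = i} M i` with differential `Kd D i`.  We prove `Kd ≫ Kd = 0` and, for an
additive functor `Φ` to abelian groups under which some `X j` becomes bijective, exactness of the image.
-/

set_option autoImplicit false

universe w v u

open CategoryTheory CategoryTheory.Limits Opposite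

namespace Groth.Agent.Lib.Lead.Koszul

variable {𝒞 : Type u} [Category.{v} 𝒞] [Preadditive 𝒞]

/-- Koszul data. -/
structure KData (𝒞 : Type u) [Category.{v} 𝒞] [Preadditive 𝒞] (I : Type) where
  M : ℕ → 𝒞
  X : I → ∀ i, M i ⟶ M (i + 1)
  comm : ∀ j l i, X l i ≫ X j (i + 1) = X j i ≫ X l (i + 1)

/-- Subsets of cardinality `i`. -/
abbrev Sub (I : Type) (i : ℕ) := {S : Finset I // S.card = i}

variable {I : Type} [Fintype I] [LinearOrder I] [HasFiniteBiproducts 𝒞] (D : KData 𝒞 I)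

/-- The terms of the Koszul complex. -/
noncomputable abbrev KX (i : ℕ) : 𝒞 := ⨁ (fun _ : Sub I i => D.M i)

/-- The matrix entries of the Koszul differential. -/
noncomputable def mat (i : ℕ) (S : Sub I i) (T : Sub I (i + 1)) : D.M i ⟶ D.M (i + 1) :=
  ∑ l ∈ T.1, if S.1 = T.1.erase l then eps S.1 l • D.X l i else 0

/-- The Koszul differential. -/
noncomputable def Kd (i : ℕ) : KX D i ⟶ KX D (i + 1) := biproduct.matrix (mat D i)

section Transport

variable (Φ : 𝒞 ⥤ AddCommGrpCat.{w}) [Φ.Additive]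

/-- evaluation of `Φ` on a morphism, as an additive map in the morphism -/
noncomputable def ev {A B : 𝒞} (s : Φ.obj A) : (A ⟶ B) →+ Φ.obj B :=
  ((AddMonoidHom.eval s).comp AddCommGrpCat.homAddEquiv.toAddMonoidHom).comp Φ.mapAddHom

lemma ev_apply {A B : 𝒞} (s : Φ.obj A) (f : A ⟶ B) : ev Φ s f = (Φ.map f).hom s := rfl

lemma ev_comp {A B C : 𝒞} (s : Φ.obj A) (f : A ⟶ B) (g : B ⟶ C) :
    ev Φ s (f ≫ g) = ev Φ (ev Φ s f) g := by
  simp only [ev_apply, Functor.map_comp]; rfl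

lemma ev_id {A : 𝒞} (s : Φ.obj A) : ev Φ s (𝟙 A) = s := by
  rw [ev_apply, Φ.map_id]; rfl

lemma ev_add {A B : 𝒞} (s t : Φ.obj A) (f : A ⟶ B) : ev Φ (s + t) f = ev Φ s f + ev Φ t f := by
  simp only [ev_apply, map_add]

lemma ev_zero' {A B : 𝒞} (f : A ⟶ B) : ev Φ (0 : Φ.obj A) f = 0 := by
  simp only [ev_apply, map_zero]

lemma ev_sum {A B : 𝒞} {ι : Type*} (t : Finset ι) (s : ι → Φ.obj A) (f : A ⟶ B) :
    ev Φ (∑ k ∈ t, s k) f = ∑ k ∈ t, ev Φ (s k) f := by
  simp only [ev_apply, map_sum]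

lemma ev_zsmul' {A B : 𝒞} (n : ℤ) (s : Φ.obj A) (f : A ⟶ B) : ev Φ (n • s) f = n • ev Φ s f := by
  simp only [ev_apply, map_zsmul]

/-- the additive maps induced by `X l i` -/
noncomputable def xΦ (l : I) (i : ℕ) : Φ.obj (D.M i) →+ Φ.obj (D.M (i + 1)) := (Φ.map (D.X l i)).hom

lemma xΦ_apply (l : I) (i : ℕ) (g : Φ.obj (D.M i)) : xΦ D Φ l i g = ev Φ g (D.X l i) := rfl

lemma xΦ_comm (j l : I) (i : ℕ) (g : Φ.obj (D.M i)) :
    xΦ D Φ j (i + 1) (xΦ D Φ l i g) = xΦ D Φ l (i + 1) (xΦ D Φ j i g) := by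
  simp only [xΦ_apply, ← ev_comp, D.comm j l i]

/-- The family of components of an element of `Φ (KX i)`. -/
noncomputable def fam (i : ℕ) (s : Φ.obj (KX D i)) : Finset I → Φ.obj (D.M i) :=
  fun S => if h : S.card = i then ev Φ s (biproduct.π (fun _ : Sub I i => D.M i) ⟨S, h⟩) else 0

lemma fam_of_card (i : ℕ) (s : Φ.obj (KX D i)) (S : Sub I i) :
    fam D Φ i s S.1 = ev Φ s (biproduct.π (fun _ : Sub I i => D.M i) S) := by
  rw [fam, dif_pos S.2]

lemma fam_of_card_ne (i : ℕ) (s : Φ.obj (KX D i)) (S : Finset I) (h : S.card ≠ i) :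
    fam D Φ i s S = 0 := by
  rw [fam, dif_neg h]

lemma fam_injective (i : ℕ) : Function.Injective (fam D Φ i) := by
  intro s s' h
  have key : ∀ s : Φ.obj (KX D i), s = ∑ S : Sub I i,
      ev Φ (fam D Φ i s S.1) (biproduct.ι (fun _ : Sub I i => D.M i) S) := by
    intro s
    conv_lhs => rw [← ev_id Φ s]
    rw [show 𝟙 (KX D i) = ∑ S : Sub I i, biproduct.π (fun _ : Sub I i => D.M i) S ≫
      biproduct.ι (fun _ : Sub I i => D.M i) S from biproduct.total.symm, map_sum]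
    refine Finset.sum_congr rfl fun S _ => ?_
    rw [ev_comp, fam_of_card]
  rw [key s, key s', h]

lemma exists_fam_eq (i : ℕ) (f : Finset I → Φ.obj (D.M i)) (hf : ∀ S, S.card ≠ i → f S = 0) :
    ∃ t : Φ.obj (KX D i), fam D Φ i t = f := by
  classical
  refine ⟨∑ S : Sub I i, ev Φ (f S.1) (biproduct.ι (fun _ : Sub I i => D.M i) S), ?_⟩
  funext S'
  by_cases h : S'.card = i
  · rw [fam, dif_pos h, ev_sum, Finset.sum_eq_single (⟨S', h⟩ : Sub I i)]
    · rw [← ev_comp, biproduct.ι_π_self, ev_id]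
    · intro S _ hS
      rw [← ev_comp, biproduct.ι_π_ne _ hS, map_zero]
    · intro h'; exact absurd (Finset.mem_univ _) h'
  · rw [fam_of_card_ne _ _ _ _ _ h, hf S' h]

/-- `Φ (Kd)` is the Koszul differential on families. -/
theorem fam_Kd (i : ℕ) (s : Φ.obj (KX D i)) :
    fam D Φ (i + 1) (ev Φ s (Kd D i)) = Dfam (xΦ D Φ) i (fam D Φ i s) := by
  classical
  funext T
  by_cases h : T.card = i + 1
  · rw [fam, dif_pos h, ← ev_comp, Kd, biproduct.matrix_π, biproduct.desc_eq, map_sum, Dfam]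
    have h1 : ∀ S : Sub I i, ev Φ s (biproduct.π (fun _ : Sub I i => D.M i) S ≫
        mat D i S ⟨T, h⟩) = ∑ l ∈ T, if S.1 = T.erase l then
          eps S.1 l • xΦ D Φ l i (fam D Φ i s S.1) else 0 := by
      intro S
      rw [ev_comp, mat, map_sum]
      refine Finset.sum_congr rfl fun l _ => ?_
      split_ifs with hS
      · rw [map_zsmul, xΦ_apply, fam_of_card]
      · rw [map_zero]
    rw [Finset.sum_congr rfl fun S _ => h1 S, Finset.sum_comm]
    refine Finset.sum_congr rfl fun l hl => ?_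
    have hc : (T.erase l).card = i := by rw [Finset.card_erase_of_mem hl, h]; rfl
    rw [Finset.sum_eq_single (⟨T.erase l, hc⟩ : Sub I i)]
    · rw [if_pos rfl]
    · intro S _ hS
      rw [if_neg]
      intro h'
      exact hS (Subtype.ext h')
    · intro h'; exact absurd (Finset.mem_univ _) h'
  · rw [fam_of_card_ne _ _ _ _ _ h, Dfam]
    symm
    refine Finset.sum_eq_zero fun l hl => ?_
    have hc : (T.erase l).card ≠ i := by
      rw [Finset.card_erase_of_mem hl]
      have : 0 < T.card := Finset.card_pos.mpr ⟨l, hl⟩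
      omega
    rw [fam_of_card_ne _ _ _ _ _ hc, map_zero, smul_zero]

lemma fam_zero (i : ℕ) : fam D Φ i 0 = 0 := by
  funext S
  rw [fam]
  split_ifs
  · rw [ev_zero']; rfl
  · rfl

/-- If `Φ (X j)` is bijective, the image under `Φ` of the Koszul complex is exact. -/
theorem exists_preimage (j : I) (hj : ∀ i, Function.Bijective (xΦ D Φ j i)) (i : ℕ)
    (s : Φ.obj (KX D (i + 1))) (hs : ev Φ s (Kd D (i + 1)) = 0) :
    ∃ t : Φ.obj (KX D i), ev Φ t (Kd D i) = s := by
  let e : ∀ i, Φ.obj (D.M i) ≃+ Φ.obj (D.M (i + 1)) := fun i =>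
    AddEquiv.ofBijective (xΦ D Φ j i) (hj i)
  let y : ∀ i, Φ.obj (D.M (i + 1)) →+ Φ.obj (D.M i) := fun i => (e i).symm.toAddMonoidHom
  have hxy : ∀ i g, xΦ D Φ j i (y i g) = g := fun i g => (e i).apply_symm_apply g
  have hyx : ∀ i g, y i (xΦ D Φ j i g) = g := fun i g => (e i).symm_apply_apply g
  have H := D_h_add_h_D (xΦ D Φ) j y (fun j l i g => xΦ_comm D Φ j l i g) hxy hyx i
    (fam D Φ (i + 1) s)
  rw [← fam_Kd, hs, fam_zero] at H
  have hz : hfam (G := fun i => Φ.obj (D.M i)) j y (i + 1) 0 = 0 := by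
    funext S
    rw [hfam]
    split_ifs
    · rfl
    · rw [Pi.zero_apply, map_zero, smul_zero]; rfl
  rw [hz, add_zero] at H
  obtain ⟨t, ht⟩ := exists_fam_eq D Φ i
      (hfam (G := fun i => Φ.obj (D.M i)) j y i (fam D Φ (i + 1) s)) (by
    intro S hS
    by_cases hjS : j ∈ S
    · exact hfam_of_mem (G := fun i => Φ.obj (D.M i)) j y i _ hjS
    · rw [hfam_of_notMem (G := fun i => Φ.obj (D.M i)) j y i _ hjS, fam_of_card_ne, map_zero,
        smul_zero]
      rw [Finset.card_insert_of_notMem hjS]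
      omega)
  refine ⟨t, ?_⟩
  apply fam_injective D Φ (i + 1)
  rw [fam_Kd, ht, H]

theorem eq_zero_of_Kd_zero (j : I) (hj : ∀ i, Function.Bijective (xΦ D Φ j i))
    (s : Φ.obj (KX D 0)) (hs : ev Φ s (Kd D 0) = 0) : s = 0 := by
  apply fam_injective D Φ 0
  rw [fam_zero]
  have h1 := fam_Kd D Φ 0 s
  rw [hs, fam_zero] at h1
  funext S
  by_cases hS : S.card = 0
  · have hS' : S = ∅ := Finset.card_eq_zero.mp hS
    have h2 := congrFun h1 {j}
    rw [Dfam, Finset.sum_singleton, Finset.erase_singleton, Pi.zero_apply] at h2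
    have h3 : eps (∅ : Finset I) j = 1 := by simp [eps]
    rw [h3, one_smul] at h2
    rw [hS']
    apply (hj 0).1
    exact h2.symm.trans (map_zero _).symm
  · rw [fam_of_card_ne _ _ _ _ _ hS]; rfl

end Transport

/-- `d ∘ d = 0`. -/
theorem Kd_comp_Kd (i : ℕ) : Kd D i ≫ Kd D (i + 1) = 0 := by
  let Φ : 𝒞 ⥤ AddCommGrpCat.{v} := preadditiveCoyoneda.obj (op (KX D i))
  have : ev Φ (show Φ.obj (KX D i) from 𝟙 (KX D i)) (Kd D i ≫ Kd D (i + 1)) =
      (0 : Φ.obj (KX D (i + 1 + 1))) := by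
    apply fam_injective D Φ (i + 1 + 1)
    rw [ev_comp, fam_Kd, fam_Kd, fam_zero]
    exact Dfam_Dfam (xΦ D Φ) (fun j l i g => xΦ_comm D Φ j l i g) i _
  exact (Category.id_comp _).symm.trans this

end Groth.Agent.Lib.Lead.Koszul
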