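import Groth.Agent.Lib.Lead.Koszul.H1Seq2

/-!
# Mumford's argument on `H^1` for `0 → F(-1) → F → G → 0` with `G` regular, III
-/

set_option autoImplicit false

universe u

open CategoryTheory CategoryTheory.Limits AlgebraicGeometry Opposite MonoidalCategory

namespace Groth.Agent.Lib.Lead.Koszul

open Groth.Agent.Lib.Helper29.QCoh Groth.Agent.Lib.Lead.TwistExact Groth.Agent.Lib.Lead.LinLES
  Groth.Agent.Lib.Lead.Pn Groth.Agent.Lib.Helper17.Tensor Groth.Agent.Lib.Helper17.IHom

attribute [local instance] CategoryTheory.Abelian.hasFiniteBiproducts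

section Field

variable (n : ℕ) (k : Type u) [Field k]
variable {F G : (CohB1.ProjSpace n k).Modules} (f : tw n k F (-1) ⟶ F) (g : F ⟶ G)
  (w : f ≫ g = 0) (hS : (ShortComplex.mk f g w).ShortExact)
  (hF : Coh.IsCoh F) (hGq : G.IsQuasicoherent) (m : ℤ)
  (hG : ∀ r : ℤ, m ≤ r → ∀ p : ℕ, 1 ≤ p → p ≤ n →
      Subsingleton (Coh.HH (CohB1.ProjSpace n k) (tw n k G (r - p)) p))

include hF in
lemma isCoh_tw (j : ℤ) : Coh.IsCoh (tw n k F j) := by
  haveI : F.IsQuasicoherent := hF.1
  haveI : F.IsFiniteType := hF.2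
  have hcohO := isCoh_twist n k j
  haveI := hcohO.1
  haveI := hcohO.2
  exact ⟨inferInstance, inferInstance⟩

include hF in
lemma finite_H1 (j : ℤ) : Module.Finite k (Coh.HH (CohB1.ProjSpace n k) (tw n k F j) 1) :=
  module_finite_HH_of_isCoh n k _ (isCoh_tw n k hF j) 1

/-- `H^1(F(-1)(j)) ≃ H^1(F(j-1))`. -/
lemma nonempty_H1_equiv (F : (CohB1.ProjSpace n k).Modules) (j : ℤ) :
    Nonempty (Coh.HH (CohB1.ProjSpace n k) (tw n k (tw n k F (-1)) j) 1 ≃ₗ[k]
      Coh.HH (CohB1.ProjSpace n k) (tw n k F (j - 1)) 1) := by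
  obtain ⟨e⟩ := nonempty_tw_tw_iso n k F (-1) j
  have e' : tw n k (tw n k F (-1)) j ≅ tw n k F (j - 1) := by
    rw [show j - 1 = -1 + j by ring]; exact e
  exact ⟨HHlinEquiv k e' 1⟩

include hS hGq hG hF in
/-- **(ii)**: `h^1(F(j)) ≤ h^1(F(j-1))` for `j ≥ m - 1`. -/
theorem finrank_H1_le (j : ℤ) (hj : m - 1 ≤ j) :
    Module.finrank k (Coh.HH (CohB1.ProjSpace n k) (tw n k F j) 1) ≤
      Module.finrank k (Coh.HH (CohB1.ProjSpace n k) (tw n k F (j - 1)) 1) := by
  have h₃ : Subsingleton (Coh.HH (CohB1.ProjSpace n k) (tw n k G j) 1) :=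
    subsingleton_HH_tw_of_regular n k G m hG 1 le_rfl j (by push_cast; omega)
  have hsurj := surjective_HHlin_f_one k _ (shortExact_map_tw n k _ hS j) h₃
  obtain ⟨θ⟩ := nonempty_H1_equiv n k F j
  haveI := finite_H1 n k hF (j - 1)
  haveI : Module.Finite k (Coh.HH (CohB1.ProjSpace n k) (tw n k (tw n k F (-1)) j) 1) :=
    Module.Finite.equiv θ.symm
  rw [← θ.finrank_eq]
  exact LinearMap.finrank_le_finrank_of_surjective hsurj

/-- Surjectivity of `Γ(F(j)) → Γ(G(j))`. -/
def SurjAt (j : ℤ) : Prop :=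
  Function.Surjective (((tensorRight (Twist.twistProjSpace n k j)).map g).val.app (op ⊤)).hom

include hG in
lemma surjAt_of_le (j : ℤ) (hj : m ≤ j) (h : SurjAt n k g j) :
    ∀ j' : ℤ, j ≤ j' → SurjAt n k g j' := by
  intro j' hj'
  induction j', hj' using Int.le_induction with
  | base => exact h
  | succ j' hj' ih => exact surjective_app_top_succ n k g j' (hG j' (by omega)) ih

include hS hF hGq hG in
/-- If `h^1(F(j)) = h^1(F(j-1))` for some `j ≥ m`, then `h^1(F(j-1)) = 0`. -/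
lemma finrank_H1_pred_eq_zero (j : ℤ) (hj : m ≤ j)
    (heq : Module.finrank k (Coh.HH (CohB1.ProjSpace n k) (tw n k F j) 1) =
      Module.finrank k (Coh.HH (CohB1.ProjSpace n k) (tw n k F (j - 1)) 1)) :
    Module.finrank k (Coh.HH (CohB1.ProjSpace n k) (tw n k F (j - 1)) 1) = 0 := by
  have h₃ : Subsingleton (Coh.HH (CohB1.ProjSpace n k) (tw n k G j) 1) :=
    subsingleton_HH_tw_of_regular n k G m hG 1 le_rfl j (by push_cast; omega)
  have hSj := shortExact_map_tw n k _ hS j
  have hsurj := surjective_HHlin_f_one k _ hSj h₃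
  obtain ⟨θ⟩ := nonempty_H1_equiv n k F j
  haveI := finite_H1 n k hF (j - 1)
  haveI := finite_H1 n k hF j
  haveI : Module.Finite k (Coh.HH (CohB1.ProjSpace n k) (tw n k (tw n k F (-1)) j) 1) :=
    Module.Finite.equiv θ.symm
  have hfr : Module.finrank k (Coh.HH (CohB1.ProjSpace n k) (tw n k (tw n k F (-1)) j) 1) =
      Module.finrank k (Coh.HH (CohB1.ProjSpace n k) (tw n k F j) 1) := by
    rw [θ.finrank_eq, heq]
  have hinj := (LinearMap.injective_iff_surjective_of_finrank_eq_finrank hfr).2 hsurj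
  have hsΓ : SurjAt n k g j := surjective_app_top_of_injective_HHlin k _ hSj hinj
  have hall := surjAt_of_le n k g m hG j hj hsΓ
  obtain ⟨j₀, hj₀⟩ := exists_vanishing_tw n k F hF
  have key : ∀ d : ℕ, ∀ j' : ℤ, j - 1 ≤ j' → j₀ ≤ j' + d →
      Subsingleton (Coh.HH (CohB1.ProjSpace n k) (tw n k F j') 1) := by
    intro d
    induction d with
    | zero =>
      intro j' _ h
      exact hj₀ j' (by omega) 1 le_rfl
    | succ d ih =>
      intro j' hj' h
      haveI h1 := ih (j' + 1) (by omega) (by push_cast at h ⊢; omega)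
      have hinj' := injective_HHlin_f_one k _ (shortExact_map_tw n k _ hS (j' + 1))
        (hall (j' + 1) (by omega))
      haveI h2 : Subsingleton
          (Coh.HH (CohB1.ProjSpace n k) (tw n k (tw n k F (-1)) (j' + 1)) 1) :=
        ⟨fun a b => hinj' (@Subsingleton.elim _ h1 _ _)⟩
      obtain ⟨θ'⟩ := nonempty_H1_equiv n k F (j' + 1)
      have h3 := θ'.symm.toEquiv.subsingleton
      rw [show j' + 1 - 1 = j' by ring] at h3
      exact h3
  haveI := key (j₀ - (j - 1)).toNat (j - 1) le_rfl (by omega)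
  exact Module.finrank_zero_of_subsingleton

include hS hF hGq hG in
/-- The dimensions `h^1(F(m-1+t))` strictly decrease until they reach zero. -/
theorem h1_decrease (t : ℕ) :
    Module.finrank k (Coh.HH (CohB1.ProjSpace n k) (tw n k F (m - 1 + (t : ℤ))) 1) + t ≤
      Module.finrank k (Coh.HH (CohB1.ProjSpace n k) (tw n k F (m - 1)) 1) ∨
    Module.finrank k (Coh.HH (CohB1.ProjSpace n k) (tw n k F (m - 1 + (t : ℤ))) 1) = 0 := by
  induction t with
  | zero =>
    left
    rw [Nat.cast_zero, add_zero, add_zero]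
  | succ t ih =>
    have hidx : m - 1 + ((t + 1 : ℕ) : ℤ) - 1 = m - 1 + (t : ℤ) := by push_cast; ring
    have hle := finrank_H1_le n k f g w hS hF hGq m hG (m - 1 + ((t + 1 : ℕ) : ℤ))
      (by push_cast; omega)
    rw [hidx] at hle
    rcases ih with ih | ih
    · by_cases heq : Module.finrank k (Coh.HH (CohB1.ProjSpace n k)
          (tw n k F (m - 1 + ((t + 1 : ℕ) : ℤ))) 1) =
          Module.finrank k (Coh.HH (CohB1.ProjSpace n k) (tw n k F (m - 1 + (t : ℤ))) 1)
      · have h0 := finrank_H1_pred_eq_zero n k f g w hS hF hGq m hG (m - 1 + ((t + 1 : ℕ) : ℤ))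
          (by push_cast; omega) (by rw [hidx]; exact heq)
        rw [hidx] at h0
        right
        omega
      · left
        omega
    · right
      omega

include hS hF hGq hG in
/-- **(iii)**: `H^1(F(j)) = 0` for `j ≥ m - 1 + h^1(F(m-1))`. -/
theorem vanishing_H1 (j : ℤ)
    (hj : m - 1 + (Module.finrank k (Coh.HH (CohB1.ProjSpace n k) (tw n k F (m - 1)) 1) : ℤ) ≤ j) :
    Subsingleton (Coh.HH (CohB1.ProjSpace n k) (tw n k F j) 1) := by
  obtain ⟨t, rfl⟩ : ∃ t : ℕ, j = m - 1 + t := ⟨(j - (m - 1)).toNat, by omega⟩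
  haveI := finite_H1 n k hF (m - 1 + t)
  have h0 : Module.finrank k (Coh.HH (CohB1.ProjSpace n k) (tw n k F (m - 1 + (t : ℤ))) 1) = 0 := by
    rcases h1_decrease n k f g w hS hF hGq m hG t with h | h
    · omega
    · exact h
  exact subsingleton_of_forall_eq 0 (finrank_zero_iff_forall_zero.1 h0)

end Field

end Groth.Agent.Lib.Lead.Koszul
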