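import Groth.Agent.Lib.Lead.Koszul.ClosedSub
import Groth.Agent.Lib.Lead.Koszul.H1Seq3
import Groth.Agent.Lib.Lead.NatPush.Linear
import Groth.Agent.Lib.Helper22.CohTop.ClosedEmb

/-!
# Mumford's `H^1` argument on a closed subscheme of `P^n_k`
-/

set_option autoImplicit false

universe u

open CategoryTheory CategoryTheory.Limits AlgebraicGeometry Opposite MonoidalCategory

namespace Groth.Agent.Lib.Lead.Koszul

open Groth.Agent.Lib.Helper29.QCoh Groth.Agent.Lib.Lead.TwistExact Groth.Agent.Lib.Lead.LinLES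
  Groth.Agent.Lib.Lead.Pn

section General

variable {X Y : Scheme.{u}} (i : X ⟶ Y) [IsClosedImmersion i]

/-- The pushforward along a closed immersion preserves epimorphisms. -/
lemma epi_pushforward_map {M N : X.Modules} (g : M ⟶ N) [Epi g] :
    Epi ((Scheme.Modules.pushforward i).map g) := by
  have h0 : Epi ((toSheafAb X).map g) := (toSheafAb X).map_epi g
  have h := @Groth.Agent.Lib.Helper22.CohTop.epi_push_map_of_isClosedEmbedding _ _ i.base
    i.isClosedEmbedding _ _ ((toSheafAb X).map g) h0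
  have h' : Epi ((toSheafAb Y).map ((Scheme.Modules.pushforward i).map g)) := h
  exact (toSheafAb Y).epi_of_epi_map h'

/-- The pushforward along a closed immersion preserves short exact sequences. -/
lemma shortExact_map_pushforward (S : ShortComplex X.Modules) (hS : S.ShortExact) :
    (S.map (Scheme.Modules.pushforward i)).ShortExact := by
  haveI := Groth.Agent.Lib.Helper5.ProjFormulaLF.preservesFiniteLimits_pushforward i
  haveI := hS.epi_g
  exact Groth.Agent.Lib.Helper22.CohTop.shortExact_map_of_epi (Scheme.Modules.pushforward i) hS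
    (epi_pushforward_map i S.g)

end General

section Pn

variable (n : ℕ) (k : Type u) [Field k] {X : Scheme.{u}} [X.Over (Spec (CommRingCat.of k))]
  (i : X ⟶ CohB1.ProjSpace n k) [IsClosedImmersion i]
  (hi : i ≫ CohB1.ProjSpace.toSpec n k = X ↘ Spec (CommRingCat.of k))

include hi in
/-- `H^q(X, F(d)) ≃ H^q(P^n, (i_* F)(d))`, linearly over `k`. -/
lemma nonempty_HH_twistOn_linearEquiv (F : X.Modules) [F.IsQuasicoherent] (d : ℤ) (q : ℕ) :
    Nonempty (Coh.HH X (Pic13.twistOn k i F d) q ≃ₗ[k]
      Coh.HH (CohB1.ProjSpace n k) (tw n k ((Scheme.Modules.pushforward i).obj F) d) q) := by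
  haveI : (Twist.twistProjSpace n k d).IsQuasicoherent := twist_isQuasicoherent n k d
  obtain ⟨e⟩ := nonempty_projFormula i (Twist.twistProjSpace n k d) (isFinLocFree_twist n k d) F
  haveI : (Pic13.twistOn k i F d).IsQuasicoherent :=
    (inferInstance : (CohB1.tensorMod F ((Scheme.Modules.pullback i).obj
      (Twist.twistProjSpace n k d))).IsQuasicoherent)
  obtain ⟨a⟩ := Groth.Agent.Lib.Lead.NatPush.nonempty_HH_linearEquiv_HH_push i
    (Pic13.twistOn k i F d) k hi q
  exact ⟨a.trans (HHlinEquiv k e.symm q)⟩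

include hi in
/-- **Mumford's `H^1` argument on a closed subscheme of `P^n_k`.** -/
theorem closedSub_h1 (F G : X.Modules) (hF : Coh.IsCoh F) (hG : Coh.IsCoh G)
    (f : Pic13.twistOn k i F (-1) ⟶ F) (g : F ⟶ G) (hfg : f ≫ g = 0)
    (hS : (ShortComplex.mk f g hfg).ShortExact) (m : ℤ) (hGm : Pic13.IsMRegular k i G m) :
    (∀ (q : ℕ) (n' : ℤ), 2 ≤ q → m - q ≤ n' →
      Subsingleton (Coh.HH X (Pic13.twistOn k i F n') q)) ∧
    (∀ n' : ℤ, m - 1 ≤ n' →
      Module.finrank k (Coh.HH X (Pic13.twistOn k i F n') 1) ≤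
        Module.finrank k (Coh.HH X (Pic13.twistOn k i F (n' - 1)) 1)) ∧
    (∀ n' : ℤ, (m - 1) + (Module.finrank k (Coh.HH X (Pic13.twistOn k i F (m - 1)) 1) : ℤ) ≤ n' →
      Subsingleton (Coh.HH X (Pic13.twistOn k i F n') 1)) := by
  haveI : F.IsQuasicoherent := hF.1
  have hFt := isCoh_push n k i F hF
  have hGt := isCoh_push n k i G hG
  have hGtq : ((Scheme.Modules.pushforward i).obj G).IsQuasicoherent := hGt.1
  obtain ⟨pf0⟩ := nonempty_projFormula i (Twist.twistProjSpace n k (-1))
    (isFinLocFree_twist n k (-1)) F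
  let ft : tw n k ((Scheme.Modules.pushforward i).obj F) (-1) ⟶
      (Scheme.Modules.pushforward i).obj F := pf0.hom ≫ (Scheme.Modules.pushforward i).map f
  let gt := (Scheme.Modules.pushforward i).map g
  have hS1 := shortExact_map_pushforward i _ hS
  have h0 : (Scheme.Modules.pushforward i).map f ≫ (Scheme.Modules.pushforward i).map g = 0 :=
    ((ShortComplex.mk f g hfg).map (Scheme.Modules.pushforward i)).zero
  have wt : ft ≫ gt = 0 := by
    change (pf0.hom ≫ (Scheme.Modules.pushforward i).map f) ≫ (Scheme.Modules.pushforward i).map g = 0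
    rw [Category.assoc]
    exact (congrArg (fun t => pf0.hom ≫ t) h0).trans comp_zero
  have hSt : (ShortComplex.mk ft gt wt).ShortExact := by
    have e : (ShortComplex.mk f g hfg).map (Scheme.Modules.pushforward i) ≅
        ShortComplex.mk ft gt wt := by
      refine ShortComplex.isoMk pf0.symm (Iso.refl _) (Iso.refl _) ?_ ?_
      · change pf0.inv ≫ pf0.hom ≫ (Scheme.Modules.pushforward i).map f =
          (Scheme.Modules.pushforward i).map f ≫ 𝟙 _
        rw [Category.comp_id, Iso.inv_hom_id_assoc]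
        rfl
      · change 𝟙 _ ≫ (Scheme.Modules.pushforward i).map g =
          (Scheme.Modules.pushforward i).map g ≫ 𝟙 _
        rw [Category.comp_id, Category.id_comp]
    exact ShortComplex.shortExact_of_iso e hS1
  have hGt' : ∀ r : ℤ, m ≤ r → ∀ p : ℕ, 1 ≤ p → p ≤ n →
      Subsingleton (Coh.HH (CohB1.ProjSpace n k)
        (tw n k ((Scheme.Modules.pushforward i).obj G) (r - p)) p) :=
    fun r hr p hp1 hpn => isMRegular_push n k i G hG m hGm r hr p hp1 hpn
  have hfr : ∀ d : ℤ, Module.finrank k (Coh.HH X (Pic13.twistOn k i F d) 1) =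
      Module.finrank k (Coh.HH (CohB1.ProjSpace n k)
        (tw n k ((Scheme.Modules.pushforward i).obj F) d) 1) := by
    intro d
    obtain ⟨E⟩ := nonempty_HH_twistOn_linearEquiv n k i hi F d 1
    exact E.finrank_eq
  refine ⟨fun q n' hq hn' => ?_, fun n' hn' => ?_, fun n' hn' => ?_⟩
  · exact (subsingleton_HH_twistOn_iff n k i F n' q).2
      (vanishing_ge_two n k ft gt wt hSt hFt hGtq m hGt' q hq n' hn')
  · rw [hfr, hfr]
    exact finrank_H1_le n k ft gt wt hSt hFt hGtq m hGt' n' hn'
  · rw [hfr] at hn'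
    exact (subsingleton_HH_twistOn_iff n k i F n' 1).2
      (vanishing_H1 n k ft gt wt hSt hFt hGtq m hGt' n' hn')

end Pn

end Groth.Agent.Lib.Lead.Koszul
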