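import Groth.Agent.Lib.Lead.Koszul.Proj

/-!
# The Koszul complex on `Proj` as a cochain complex indexed by `ℤ`
-/

set_option autoImplicit false

universe u

open CategoryTheory CategoryTheory.Limits AlgebraicGeometry Opposite TopologicalSpace

namespace Groth.Agent.Lib.Lead.Koszul

open Groth.Agent.Lib.Helper29.QCoh

attribute [local instance] CategoryTheory.Abelian.hasFiniteBiproducts

variable {R A : Type u} [CommRing R] [CommRing A] [Algebra R A] (𝒜 : ℕ → Submodule R A)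
  [GradedAlgebra 𝒜] {I : Type} [Fintype I] [LinearOrder I] (f : I → 𝒜 1) (a : ℤ)

/-- The Koszul complex, indexed by `ℕ`. -/
noncomputable def koszulNat : CochainComplex (Proj 𝒜).Modules ℕ :=
  CochainComplex.of (KX (projData 𝒜 f a)) (Kd (projData 𝒜 f a)) (Kd_comp_Kd (projData 𝒜 f a))

/-- The Koszul complex, indexed by `ℤ`. -/
noncomputable def koszul : CochainComplex (Proj 𝒜).Modules ℤ :=
  (koszulNat 𝒜 f a).extend ComplexShape.embeddingUpNat

/-- The terms of the Koszul complex. -/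
noncomputable def koszulXIso (i : ℕ) : (koszul 𝒜 f a).X (i : ℤ) ≅ KX (projData 𝒜 f a) i :=
  (koszulNat 𝒜 f a).extendXIso ComplexShape.embeddingUpNat (i := i) rfl

theorem isZero_koszul_X_of_neg (i : ℤ) (hi : i < 0) : IsZero ((koszul 𝒜 f a).X i) := by
  apply HomologicalComplex.isZero_extend_X
  intro j hj
  change (j : ℤ) = i at hj
  omega

theorem isZero_koszul_X_of_card_lt (i : ℤ) (hi : (Fintype.card I : ℤ) < i) :
    IsZero ((koszul 𝒜 f a).X i) := by
  obtain ⟨k, rfl⟩ := Int.eq_ofNat_of_zero_le (show 0 ≤ i by omega)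
  exact (isZero_KX_of_card_lt 𝒜 f a k (by exact_mod_cast hi)).of_iso (koszulXIso 𝒜 f a k)

variable (hcov : ∀ x : Proj 𝒜, ∃ l : I, x ∈ Proj.basicOpen 𝒜 (f l).1)

include hcov

theorem koszulNat_exactAt (k : ℕ) : (koszulNat 𝒜 f a).ExactAt k := by
  rcases k with _ | k
  · rw [HomologicalComplex.exactAt_iff' (koszulNat 𝒜 f a) 0 0 1 (by simp) (by simp)]
    have h0 : (koszulNat 𝒜 f a).d 0 0 = 0 := (koszulNat 𝒜 f a).shape _ _ (by simp)
    rw [ShortComplex.exact_iff_mono _ h0]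
    have h1 : (koszulNat 𝒜 f a).d 0 (0 + 1) = Kd (projData 𝒜 f a) 0 :=
      CochainComplex.of_d (KX (projData 𝒜 f a)) (Kd (projData 𝒜 f a)) 0
    change Mono ((koszulNat 𝒜 f a).d 0 (0 + 1))
    rw [h1]
    exact projData_mono 𝒜 f a hcov
  · rw [HomologicalComplex.exactAt_iff' (koszulNat 𝒜 f a) k (k + 1) (k + 1 + 1) (by simp) (by simp)]
    have h1 : (koszulNat 𝒜 f a).d k (k + 1) = Kd (projData 𝒜 f a) k :=
      CochainComplex.of_d _ _ k
    have h2 : (koszulNat 𝒜 f a).d (k + 1) (k + 1 + 1) = Kd (projData 𝒜 f a) (k + 1) :=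
      CochainComplex.of_d _ _ (k + 1)
    have e : (koszulNat 𝒜 f a).sc' k (k + 1) (k + 1 + 1) ≅
        ShortComplex.mk (Kd (projData 𝒜 f a) k) (Kd (projData 𝒜 f a) (k + 1))
          (Kd_comp_Kd (projData 𝒜 f a) k) :=
      ShortComplex.isoMk (Iso.refl _) (Iso.refl _) (Iso.refl _)
        (by
          change 𝟙 _ ≫ Kd (projData 𝒜 f a) k = (koszulNat 𝒜 f a).d k (k + 1) ≫ 𝟙 _
          rw [h1, Category.id_comp, Category.comp_id])
        (by
          change 𝟙 _ ≫ Kd (projData 𝒜 f a) (k + 1) =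
            (koszulNat 𝒜 f a).d (k + 1) (k + 1 + 1) ≫ 𝟙 _
          rw [h2, Category.id_comp, Category.comp_id])
    exact (ShortComplex.exact_iff_of_iso e).mpr (projData_exact 𝒜 f a hcov k)

theorem koszul_exactAt (i : ℤ) : (koszul 𝒜 f a).ExactAt i := by
  by_cases hi : 0 ≤ i
  · obtain ⟨k, rfl⟩ := Int.eq_ofNat_of_zero_le hi
    exact (HomologicalComplex.extend_exactAt_iff (koszulNat 𝒜 f a) ComplexShape.embeddingUpNat
      (j := k) rfl).mpr (koszulNat_exactAt 𝒜 f a hcov k)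
  · apply HomologicalComplex.extend_exactAt
    intro j hj
    change (j : ℤ) = i at hj
    omega

end Groth.Agent.Lib.Lead.Koszul
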