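import Mathlib

/-!
# Koszul combinatorics on families indexed by finite subsets

For abelian groups `G i` with commuting additive maps `x l i : G i →+ G (i + 1)`, the Koszul
differential on families `Finset I → G i`, the identity `D ∘ D = 0` and the contracting homotopy
when one of the `x j` is invertible.
-/

set_option autoImplicit false

namespace Groth.Agent.Lib.Lead.Koszul

variable {I : Type*} [LinearOrder I]

/-- The Koszul sign. -/
def eps (S : Finset I) (j : I) : ℤ := (-1) ^ (S.filter (· < j)).card

lemma eps_mul_self (S : Finset I) (j : I) : eps S j * eps S j = 1 := by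
  unfold eps; rw [← mul_pow]; simp

lemma eps_insert {S : Finset I} {l : I} (j : I) (hl : l ∉ S) :
    eps (insert l S) j = if l < j then - eps S j else eps S j := by
  unfold eps
  rw [Finset.filter_insert]
  split_ifs with h
  · rw [Finset.card_insert_of_notMem (by simp [hl]), pow_succ]; ring
  · rfl

lemma eps_erase {S : Finset I} {l : I} (j : I) (hl : l ∈ S) :
    eps (S.erase l) j = if l < j then - eps S j else eps S j := by
  have := eps_insert (S := S.erase l) (l := l) j (Finset.notMem_erase l S)
  rw [Finset.insert_erase hl] at this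
  split_ifs at this ⊢ with h
  · rw [this]; ring
  · exact this.symm

/-- the basic sign identity -/
lemma eps_swap {B : Finset I} {j l : I} (hjl : j ≠ l) (hj : j ∉ B) (hl : l ∉ B) :
    eps (insert j B) l * eps B j + eps (insert l B) j * eps B l = 0 := by
  rw [eps_insert l hj, eps_insert j hl]
  rcases lt_or_gt_of_ne hjl with h | h
  · rw [if_pos h, if_neg (not_lt.mpr h.le)]; ring
  · rw [if_neg (not_lt.mpr h.le), if_pos h]; ring

lemma eps_swap' {B : Finset I} {j l : I} (hjl : j ≠ l) (hj : j ∉ B) (hl : l ∉ B) :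
    eps B l * eps B j + eps (insert l B) j * eps (insert j B) l = 0 := by
  rw [eps_insert l hj, eps_insert j hl]
  rcases lt_or_gt_of_ne hjl with h | h
  · rw [if_pos h, if_neg (not_lt.mpr h.le)]; ring
  · rw [if_neg (not_lt.mpr h.le), if_pos h]; ring

variable {G : ℕ → Type*} [∀ i, AddCommGroup (G i)] (x : I → ∀ i, G i →+ G (i + 1))

/-- The Koszul differential on families. -/
def Dfam (i : ℕ) (s : Finset I → G i) : Finset I → G (i + 1) :=
  fun T => ∑ l ∈ T, eps (T.erase l) l • x l i (s (T.erase l))

lemma Dfam_add (i : ℕ) (s t : Finset I → G i) : Dfam x i (s + t) = Dfam x i s + Dfam x i t := by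
  funext T
  simp only [Dfam, Pi.add_apply, map_add, smul_add, Finset.sum_add_distrib]

theorem Dfam_Dfam (comm : ∀ j l i g, x j (i + 1) (x l i g) = x l (i + 1) (x j i g)) (i : ℕ)
    (s : Finset I → G i) : Dfam x (i + 1) (Dfam x i s) = 0 := by
  funext U
  simp only [Dfam, Pi.zero_apply, map_sum, map_zsmul, Finset.smul_sum]
  rw [Finset.sum_sigma']
  refine Finset.sum_involution (fun p _ => ⟨p.2, p.1⟩) ?_ ?_ ?_ ?_
  · rintro ⟨l, j⟩ hp
    simp only [Finset.mem_sigma, Finset.mem_erase] at hp
    obtain ⟨hl, hjl, hj⟩ := hp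
    simp only
    set B := (U.erase l).erase j with hB
    have hB' : (U.erase j).erase l = B := Finset.erase_right_comm
    have hjB : j ∉ B := Finset.notMem_erase j _
    have hlB : l ∉ B := by rw [← hB']; exact Finset.notMem_erase l _
    have e1 : U.erase l = insert j B := by
      rw [hB, Finset.insert_erase (Finset.mem_erase.mpr ⟨hjl, hj⟩)]
    have e2 : U.erase j = insert l B := by
      rw [← hB', Finset.insert_erase (Finset.mem_erase.mpr ⟨fun h => hjl h.symm, hl⟩)]
    rw [hB', e1, e2, comm l j i, smul_smul, smul_smul, ← add_smul]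
    have := eps_swap (B := B) hjl hjB hlB
    rw [this, zero_smul]
  · rintro ⟨l, j⟩ hp _ h
    simp only [Finset.mem_sigma, Finset.mem_erase] at hp
    simp only [Sigma.mk.injEq] at h
    exact hp.2.1 h.1
  · rintro ⟨l, j⟩ hp
    simp only [Finset.mem_sigma, Finset.mem_erase] at hp ⊢
    exact ⟨hp.2.2, fun h => hp.2.1 h.symm, hp.1⟩
  · rintro ⟨l, j⟩ _
    rfl

variable (j : I) (y : ∀ i, G (i + 1) →+ G i)

/-- The contracting homotopy. -/
def hfam (i : ℕ) (s : Finset I → G (i + 1)) : Finset I → G i :=
  fun S => if j ∈ S then 0 else eps S j • y i (s (insert j S))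

lemma hfam_of_mem (i : ℕ) (s : Finset I → G (i + 1)) {S : Finset I} (h : j ∈ S) :
    hfam j y i s S = 0 := if_pos h

lemma hfam_of_notMem (i : ℕ) (s : Finset I → G (i + 1)) {S : Finset I} (h : j ∉ S) :
    hfam j y i s S = eps S j • y i (s (insert j S)) := if_neg h

theorem D_h_add_h_D (comm : ∀ j l i g, x j (i + 1) (x l i g) = x l (i + 1) (x j i g))
    (hxy : ∀ i g, x j i (y i g) = g) (hyx : ∀ i g, y i (x j i g) = g) (i : ℕ)
    (s : Finset I → G (i + 1)) :
    Dfam x i (hfam j y i s) + hfam j y (i + 1) (Dfam x (i + 1) s) = s := by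
  have hcomm : ∀ l i g, x l i (y i g) = y (i + 1) (x l (i + 1) g) := by
    intro l i g
    have h1 := comm j l i (y i g)
    rw [hxy] at h1
    rw [← h1, hyx]
  funext T
  by_cases hjT : j ∈ T
  · rw [Pi.add_apply, hfam_of_mem j y _ _ hjT, add_zero]
    rw [Dfam, Finset.sum_eq_single_of_mem j hjT]
    · rw [hfam_of_notMem j y _ _ (Finset.notMem_erase j T), Finset.insert_erase hjT, map_zsmul, hxy, smul_smul,
        eps_mul_self, one_smul]
    · intro l _ hlj
      rw [hfam_of_mem j y _ _ (Finset.mem_erase.mpr ⟨fun h => hlj h.symm, hjT⟩), map_zero,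
        smul_zero]
  · rw [Pi.add_apply, hfam_of_notMem j y _ _ hjT]
    rw [Dfam, Dfam, Finset.sum_insert hjT, Finset.erase_insert hjT, map_add, smul_add, map_zsmul,
      hyx, smul_smul, eps_mul_self, one_smul, map_sum, Finset.smul_sum, add_comm (s T), ← add_assoc,
      ← Finset.sum_add_distrib]
    rw [Finset.sum_eq_zero, zero_add]
    intro l hl
    have hlj : l ≠ j := fun h => hjT (h ▸ hl)
    have hjl : j ∉ T.erase l := fun h => hjT (Finset.mem_of_mem_erase h)
    rw [hfam_of_notMem j y _ _ hjl, Finset.erase_insert_of_ne (fun h => hlj h.symm), map_zsmul, map_zsmul, hcomm,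
      smul_smul, smul_smul, ← add_smul]
    set B := T.erase l with hB
    have hlB : l ∉ B := Finset.notMem_erase l T
    have hT : T = insert l B := (Finset.insert_erase hl).symm
    have := eps_swap' (B := B) (fun h => hlj h.symm) hjl hlB
    rw [hT, this, zero_smul]

end Groth.Agent.Lib.Lead.Koszul
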