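import Groth.Agent.Lib.Lead.TwistExact
import Groth.Agent.Lib.Helper17.FlatSES
import Groth.Agent.Lib.Helper17.ProjFormula
import Groth.Agent.Lib.Helper17.CyclesSES

/-!
# Flatness of finite biproducts; tensoring exact complexes of flat modules
-/

set_option autoImplicit false

universe u

open CategoryTheory CategoryTheory.Limits AlgebraicGeometry Opposite ZeroObject

namespace Groth.Agent.Lib.Lead.Koszul

open Groth.Agent.Lib.Lead.TwistExact

attribute [local instance] CategoryTheory.Abelian.hasFiniteBiproducts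

variable (X : Scheme.{u})

instance tensorRight_additive {X : Scheme.{u}} (L : X.Modules) : (tensorRight L).Additive :=
  Groth.Agent.Lib.Helper17.ProjFormula.flip_obj_additive (O := X.sheaf) L

/-- Flatness, as a property of objects. -/
def flatProp : ObjectProperty X.Modules := fun M => FlatMod.IsFlat M

instance : (flatProp X).IsClosedUnderIsomorphisms :=
  ⟨fun e h => Groth.Agent.Lib.Helper28.DCohRes.isFlat_of_iso e h⟩

instance : (flatProp X).ContainsZero :=
  ⟨⟨(0 : X.Modules), isZero_zero _,
    Groth.Agent.Lib.Helper28.DCohRes.isFlat_of_isZero (isZero_zero _)⟩⟩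

instance : (flatProp X).IsClosedUnderBinaryProducts where
  limitsOfShape_le := by
    rintro M ⟨p⟩
    have e : M ≅ (p.diag.obj ⟨WalkingPair.left⟩) ⊞ (p.diag.obj ⟨WalkingPair.right⟩) :=
      p.isLimit.conePointUniqueUpToIso (limit.isLimit _) ≪≫
        HasLimit.isoOfNatIso (diagramIsoPair p.diag) ≪≫ (biprod.isoProd _ _).symm
    exact Groth.Agent.Lib.Helper28.DCohRes.isFlat_of_iso e.symm
      (Groth.Agent.Lib.Helper28.DCohRes.isFlat_biprod (p.prop_diag_obj _) (p.prop_diag_obj _))

instance : (flatProp X).IsClosedUnderFiniteProducts :=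
  ObjectProperty.IsClosedUnderFiniteProducts.mk'

variable {X}

/-- A finite biproduct of flat modules is flat. -/
theorem isFlat_biproduct {ι : Type} [Finite ι] (L : ι → X.Modules)
    (h : ∀ j, FlatMod.IsFlat (L j)) : FlatMod.IsFlat (⨁ L : X.Modules) := by
  have h1 : flatProp X (∏ᶜ L) := (flatProp X).prop_product h
  exact Groth.Agent.Lib.Helper28.DCohRes.isFlat_of_iso (biproduct.isoProduct L).symm h1

lemma isFlat_site_iff (M : X.Modules) :
    FlatMod.IsFlat M ↔ ModSite.IsFlat (O := X.sheaf) M :=
  Groth.Agent.Lib.Helper17.FlatBridge.isFlat_iff M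

/-- In a short exact sequence with flat middle and right terms, the left term is flat. -/
theorem isFlat_left (S : ShortComplex X.Modules) (hS : S.ShortExact)
    (h₂ : FlatMod.IsFlat S.X₂) (h₃ : FlatMod.IsFlat S.X₃) : FlatMod.IsFlat S.X₁ :=
  (isFlat_site_iff _).2 (Groth.Agent.Lib.Helper17.FlatSES.isFlat_left (O := X.sheaf) S hS
    ((isFlat_site_iff _).1 h₂) ((isFlat_site_iff _).1 h₃))

/-- Tensoring a short exact sequence with flat right term by any module gives a short exact
sequence. -/
theorem shortExact_tensorRight_of_isFlat_X₃ (S : ShortComplex X.Modules) (hS : S.ShortExact)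
    (h₃ : FlatMod.IsFlat S.X₃) (G : X.Modules) : (S.map (tensorRight G)).ShortExact :=
  Groth.Agent.Lib.Helper17.FlatSES.tensor_shortExact_of_isFlat (O := X.sheaf) S hS
    ((isFlat_site_iff _).1 h₃) G

section Cycles

variable (K : CochainComplex X.Modules ℕ) (hK : ∀ i, K.ExactAt i)
  (hfl : ∀ i, FlatMod.IsFlat (K.X i)) (N : ℕ) (hN : ∀ i, N ≤ i → IsZero (K.X i))

include hK hfl hN

/-- The cycles of a bounded exact complex of flat modules are flat. -/
theorem isFlat_cycles (i : ℕ) : FlatMod.IsFlat (K.cycles i) := by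
  have hz : ∀ i, N ≤ i → FlatMod.IsFlat (K.cycles i) := by
    intro i hi
    apply Groth.Agent.Lib.Helper28.DCohRes.isFlat_of_isZero
    rw [IsZero.iff_id_eq_zero, ← cancel_mono (K.iCycles i)]
    exact (hN i hi).eq_of_tgt _ _
  have key : ∀ k i, i + k = N → FlatMod.IsFlat (K.cycles i) := by
    intro k
    induction k with
    | zero => intro i hi; exact hz i (by omega)
    | succ k ih =>
      intro i hi
      have hrel : (ComplexShape.up ℕ).Rel i (i + 1) := rfl
      exact isFlat_left _
        (Groth.Agent.Lib.Helper17.CyclesSES.cyclesSC_shortExact K hrel (hK (i + 1)))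
        (hfl i) (ih (i + 1) (by omega))
  by_cases hi : N ≤ i
  · exact hz i hi
  · exact key (N - i) i (by omega)

/-- The short exact sequences `0 → Z^i ⊗ G → K^i ⊗ G → Z^{i+1} ⊗ G → 0`. -/
theorem shortExact_cyclesSC_tensor (G : X.Modules) (i : ℕ) :
    ((Groth.Agent.Lib.Helper17.CyclesSES.cyclesSC K i (i + 1)).map (tensorRight G)).ShortExact := by
  have hrel : (ComplexShape.up ℕ).Rel i (i + 1) := rfl
  exact shortExact_tensorRight_of_isFlat_X₃ _
    (Groth.Agent.Lib.Helper17.CyclesSES.cyclesSC_shortExact K hrel (hK (i + 1)))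
    (isFlat_cycles K hK hfl N hN (i + 1)) G

end Cycles

end Groth.Agent.Lib.Lead.Koszul
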