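import Groth.Agent.Lib.Lead.Koszul.SerreVanish
import Groth.Agent.Lib.Lead.Koszul.Resol2

/-!
# Mumford's argument on `H^1` for `0 → F(-1) → F → G → 0` with `G` regular
-/

set_option autoImplicit false

universe u

open CategoryTheory CategoryTheory.Limits AlgebraicGeometry Opposite MonoidalCategory

namespace Groth.Agent.Lib.Lead.Koszul

open Groth.Agent.Lib.Helper29.QCoh Groth.Agent.Lib.Lead.TwistExact Groth.Agent.Lib.Lead.LinLES
  Groth.Agent.Lib.Lead.Pn Groth.Agent.Lib.Helper17.Tensor Groth.Agent.Lib.Helper17.IHom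

attribute [local instance] CategoryTheory.Abelian.hasFiniteBiproducts

section General

variable (A : Type u) [CommRing A] {X : Scheme.{u}} [X.Over (Spec (CommRingCat.of A))]

/-- The linear equivalence on cohomology induced by an isomorphism of modules. -/
noncomputable def HHlinEquiv {M N : X.Modules} (e : M ≅ N) (q : ℕ) :
    Coh.HH X M q ≃ₗ[A] Coh.HH X N q :=
  LinearEquiv.ofLinear (Canon.HHlin A e.hom q) (Canon.HHlin A e.inv q)
    (by
      ext x
      change Canon.HHlin A e.hom q (Canon.HHlin A e.inv q x) = x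
      rw [← HHlin_comp, e.inv_hom_id, HHlin_id])
    (by
      ext x
      change Canon.HHlin A e.inv q (Canon.HHlin A e.hom q x) = x
      rw [← HHlin_comp, e.hom_inv_id, HHlin_id])

/-- If `Γ(g)` is surjective, `H^1(f)` is injective. -/
theorem injective_HHlin_f_one (S : ShortComplex X.Modules) (hS : S.ShortExact)
    (hsurj : Function.Surjective (S.g.val.app (op (⊤ : X.Opens))).hom) :
    Function.Injective (Canon.HHlin A S.f 1) := by
  rw [injective_iff_map_eq_zero]
  intro x₁ h0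
  have hS' := Groth.Agent.Lib.Lead.LinLES.abS_shortExact S hS
  obtain ⟨x₃, hx₃⟩ := Abelian.Ext.covariant_sequence_exact₁ _ hS' x₁ h0 (n₀ := 0) rfl
  have hT : IsTerminal (⊤ : X.Opens) := isTerminalTop
  obtain ⟨c₂, hc₂⟩ := hsurj (Sheaf.H.equiv₀ (Coh.toAb S.X₃) hT x₃)
  let x₂ : Sheaf.H (Coh.toAb S.X₂) 0 := (Sheaf.H.equiv₀ (Coh.toAb S.X₂) hT).symm c₂
  have hnat := Sheaf.H.equiv₀_naturality (F := Coh.toAb S.X₂) (G := Coh.toAb S.X₃) hT
    ((toSheafAb X).map S.g) x₂
  have e1 : (Sheaf.H.equiv₀ (Coh.toAb S.X₂) hT) x₂ = c₂ := AddEquiv.apply_symm_apply _ _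
  rw [e1] at hnat
  have h3 : x₃ = Abelian.Ext.comp (Y := (abS S).X₂) x₂ (Abelian.Ext.mk₀ (abS S).g) (add_zero 0) :=
    (Sheaf.H.equiv₀ (Coh.toAb S.X₃) hT).injective (hc₂.symm.trans hnat)
  subst h3
  rw [← hx₃, Abelian.Ext.comp_assoc_of_second_deg_zero, hS'.comp_extClass, Abelian.Ext.comp_zero]
  rfl

/-- If `H^1(f)` is injective, `Γ(g)` is surjective. -/
theorem surjective_app_top_of_injective_HHlin (S : ShortComplex X.Modules) (hS : S.ShortExact)
    (hinj : Function.Injective (Canon.HHlin A S.f 1)) :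
    Function.Surjective (S.g.val.app (op (⊤ : X.Opens))).hom := by
  intro c
  have hS' := Groth.Agent.Lib.Lead.LinLES.abS_shortExact S hS
  have hT : IsTerminal (⊤ : X.Opens) := isTerminalTop
  let x₃ : Sheaf.H (Coh.toAb S.X₃) 0 := (Sheaf.H.equiv₀ (Coh.toAb S.X₃) hT).symm c
  have hδ : δlin A S hS 0 x₃ = 0 := by
    apply hinj
    rw [map_zero]
    exact (exact₁ A S hS 0 _).2 ⟨x₃, rfl⟩
  obtain ⟨x₂, hx₂⟩ := (exact₃ A S hS 0 x₃).1 hδ
  refine ⟨Sheaf.H.equiv₀ (Coh.toAb S.X₂) hT x₂, ?_⟩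
  have hnat := Sheaf.H.equiv₀_naturality (F := Coh.toAb S.X₂) (G := Coh.toAb S.X₃) hT
    ((toSheafAb X).map S.g) x₂
  have h2 : Sheaf.H.map ((toSheafAb X).map S.g) 0 x₂ = x₃ := hx₂
  have h3 : (ConcreteCategory.hom (((toSheafAb X).map S.g).hom.app (op ⊤)))
      ((Sheaf.H.equiv₀ (Coh.toAb S.X₂) hT) x₂) = (Sheaf.H.equiv₀ (Coh.toAb S.X₃) hT) x₃ := by
    rw [← h2]; exact hnat
  simp only [x₃, AddEquiv.apply_symm_apply] at h3
  exact h3

/-- If `H^1(X₃) = 0` then `H^1(f)` is surjective. -/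
theorem surjective_HHlin_f_one (S : ShortComplex X.Modules) (hS : S.ShortExact)
    (h₃ : Subsingleton (Coh.HH X S.X₃ 1)) :
    Function.Surjective (Canon.HHlin A S.f 1) := by
  intro y
  exact (exact₂ A S hS 1 y).1 (Subsingleton.elim _ _)

end General

section Pn

variable (n : ℕ) (R : Type u) [CommRing R]

/-- Cohomology vanishing for a module which is `r`-regular for all `r ≥ m`. -/
lemma subsingleton_HH_tw_of_regular (G : (CohB1.ProjSpace n R).Modules) [G.IsQuasicoherent] (m : ℤ)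
    (hG : ∀ r : ℤ, m ≤ r → ∀ p : ℕ, 1 ≤ p → p ≤ n →
      Subsingleton (Coh.HH (CohB1.ProjSpace n R) (tw n R G (r - p)) p))
    (q : ℕ) (hq : 1 ≤ q) (j : ℤ) (hj : m - q ≤ j) :
    Subsingleton (Coh.HH (CohB1.ProjSpace n R) (tw n R G j) q) := by
  by_cases hqn : q ≤ n
  · have := hG (j + q) (by omega) q hq hqn
    rw [show j + (q : ℤ) - q = j by ring] at this
    exact this
  · have hqc : Coh.IsQCoh (tw n R G j) := isQuasicoherent_tw n R G j
    exact @Groth.Agent.S0022.result n R _ (tw n R G j) hqc q (by omega)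

/-- Propagation of surjectivity on global sections along multiplication by linear forms. -/
lemma surjective_app_top_succ {F G : (CohB1.ProjSpace n R).Modules} (g : F ⟶ G) (j : ℤ)
    (hGj : ∀ p : ℕ, 1 ≤ p → p ≤ n →
      Subsingleton (Coh.HH (CohB1.ProjSpace n R) (tw n R G (j - p)) p))
    (hsurj : Function.Surjective
      (((tensorRight (Twist.twistProjSpace n R j)).map g).val.app (op ⊤)).hom) :
    Function.Surjective
      (((tensorRight (Twist.twistProjSpace n R (j + 1))).map g).val.app (op ⊤)).hom := by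
  intro t
  have hd : j + 1 = j + ((1 : ℕ) : ℤ) := by norm_num
  obtain ⟨tl, ht⟩ := exists_decomposition' n R G j (j + 1) hd hGj t
  choose u hu using fun l => hsurj (tl l)
  refine ⟨∑ l, ((tensorLeft F).map (mulX n R l j (j + 1) hd)).app ⊤ (u l), ?_⟩
  rw [map_sum, ht]
  refine Finset.sum_congr rfl fun l _ => ?_
  have hnat : (tensorLeft F).map (mulX n R l j (j + 1) hd) ≫
      (tensorRight (Twist.twistProjSpace n R (j + 1))).map g =
      (tensorRight (Twist.twistProjSpace n R j)).map g ≫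
        (tensorLeft G).map (mulX n R l j (j + 1) hd) :=
    ((ModSite.tensorBi (CohB1.ProjSpace n R).sheaf).map g).naturality (mulX n R l j (j + 1) hd)
  change (((tensorLeft F).map (mulX n R l j (j + 1) hd)) ≫
    ((tensorRight (Twist.twistProjSpace n R (j + 1))).map g)).app ⊤ (u l) = _
  rw [hnat, ← hu l]
  rfl

end Pn

end Groth.Agent.Lib.Lead.Koszul
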