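import Groth.Agent.Lib.Lead.Koszul.H1Seq

/-!
# Mumford's argument on `H^1` for `0 → F(-1) → F → G → 0` with `G` regular, II
-/

set_option autoImplicit false

universe u

open CategoryTheory CategoryTheory.Limits AlgebraicGeometry Opposite MonoidalCategory

namespace Groth.Agent.Lib.Lead.Koszul

open Groth.Agent.Lib.Helper29.QCoh Groth.Agent.Lib.Lead.TwistExact Groth.Agent.Lib.Lead.LinLES
  Groth.Agent.Lib.Lead.Pn Groth.Agent.Lib.Helper17.Tensor Groth.Agent.Lib.Helper17.IHom

attribute [local instance] CategoryTheory.Abelian.hasFiniteBiproducts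

section Noeth

variable (n : ℕ) (R : Type u) [CommRing R] [IsNoetherianRing R]
variable {F G : (CohB1.ProjSpace n R).Modules} (f : tw n R F (-1) ⟶ F) (g : F ⟶ G)
  (w : f ≫ g = 0) (hS : (ShortComplex.mk f g w).ShortExact)
  (hF : Coh.IsCoh F) (hGq : G.IsQuasicoherent) (m : ℤ)
  (hG : ∀ r : ℤ, m ≤ r → ∀ p : ℕ, 1 ≤ p → p ≤ n →
      Subsingleton (Coh.HH (CohB1.ProjSpace n R) (tw n R G (r - p)) p))

include hS hGq hG in
/-- Descending step for `H^i`, `i ≥ 2`. -/
lemma step_down (i : ℕ) (hi : 2 ≤ i) (j : ℤ) (hj : m - i + 1 ≤ j)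
    (h : Subsingleton (Coh.HH (CohB1.ProjSpace n R) (tw n R F j) i)) :
    Subsingleton (Coh.HH (CohB1.ProjSpace n R) (tw n R F (j - 1)) i) := by
  obtain ⟨q, rfl⟩ : ∃ q, i = q + 1 := ⟨i - 1, by omega⟩
  have h₃ : Subsingleton (Coh.HH (CohB1.ProjSpace n R) (tw n R G j) q) :=
    subsingleton_HH_tw_of_regular n R G m hG q (by omega) j (by push_cast at hj; omega)
  have h1 := subsingleton_HH_X₁ _ (shortExact_map_tw n R _ hS j) q h₃ h
  obtain ⟨e⟩ := nonempty_tw_tw_iso n R F (-1) j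
  have h2 := subsingleton_HH_of_iso e (q + 1) h1
  rw [show (-1 : ℤ) + j = j - 1 by ring] at h2
  exact h2

include hS hGq hG hF in
/-- **(i)**: `H^i(F(j)) = 0` for `i ≥ 2` and `j ≥ m - i`. -/
theorem vanishing_ge_two (i : ℕ) (hi : 2 ≤ i) (j : ℤ) (hj : m - i ≤ j) :
    Subsingleton (Coh.HH (CohB1.ProjSpace n R) (tw n R F j) i) := by
  obtain ⟨j₀, hj₀⟩ := exists_vanishing_tw n R F hF
  have key : ∀ d : ℕ, ∀ j : ℤ, m - i ≤ j → j₀ ≤ j + d →
      Subsingleton (Coh.HH (CohB1.ProjSpace n R) (tw n R F j) i) := by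
    intro d
    induction d with
    | zero =>
      intro j _ hj
      exact hj₀ j (by omega) i (by omega)
    | succ d ih =>
      intro j hmj hj
      have h1 := ih (j + 1) (by omega) (by push_cast at hj ⊢; omega)
      have h2 := step_down n R f g w hS hGq m hG i hi (j + 1) (by omega) h1
      rw [show j + 1 - 1 = j by ring] at h2
      exact h2
  exact key (j₀ - j).toNat j hj (by omega)

end Noeth

end Groth.Agent.Lib.Lead.Koszul
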