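import Groth.Agent.Lib.Lead.Koszul.Complex
import Groth.Agent.Lib.Lead.Koszul.Flat
import Groth.Agent.Lib.Lead.Koszul.HHBasic
import Groth.Agent.Lib.Lead.Pn.TwistSeq
import Groth.Agent.Lib.Helper29.TwistPn

/-!
# The Koszul complex on `P^n` tensored with a module, and Mumford's lemma

For a module `F` on `P^n_R`: if `H^{q+(n-i)}(F(a+i)) = 0` for `0 ≤ i ≤ n` then `H^q(F(a+n+1)) = 0`.
-/

set_option autoImplicit false

universe u

open CategoryTheory CategoryTheory.Limits AlgebraicGeometry Opposite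

namespace Groth.Agent.Lib.Lead.Koszul

open Groth.Agent.Lib.Helper29.QCoh Groth.Agent.Lib.Lead.TwistExact Groth.Agent.Lib.Lead.LinLES
  Groth.Agent.Lib.Lead.Pn

attribute [local instance] CategoryTheory.Abelian.hasFiniteBiproducts

section Pn

variable (n : ℕ) (R : Type u) [CommRing R] (a : ℤ)

/-- The Koszul complex `O(a) → O(a+1)^{n+1} → ⋯ → O(a+n+1)` on `P^n_R`, indexed by `ℕ`. -/
noncomputable def KPn : CochainComplex (CohB1.ProjSpace n R).Modules ℕ :=
  koszulNat (CohB1.polyGrading n R) (fun l => Xi n R l) a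

theorem KPn_exactAt (i : ℕ) : (KPn n R a).ExactAt i :=
  koszulNat_exactAt (CohB1.polyGrading n R) (fun l => Xi n R l) a
    (fun x => exists_mem_basicOpen_X n R x) i

theorem isFlat_KPn_X (i : ℕ) : FlatMod.IsFlat ((KPn n R a).X i) :=
  isFlat_biproduct (X := CohB1.ProjSpace n R)
    (fun _ : Sub (Fin (n + 1)) i => Twist.twistProjSpace n R (a + i))
    (fun _ => isFlat_twistProjSpace n R _)

theorem isZero_KPn_X (i : ℕ) (hi : n + 2 ≤ i) : IsZero ((KPn n R a).X i) :=
  isZero_KX_of_card_lt (CohB1.polyGrading n R) (fun l => Xi n R l) a i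
    (by rw [Fintype.card_fin]; omega)

/-- The Koszul data on `P^n_R`. -/
noncomputable def DPn : KData (CohB1.ProjSpace n R).Modules (Fin (n + 1)) :=
  projData (CohB1.polyGrading n R) (fun l => Xi n R l) a

theorem KPn_d (i : ℕ) : (KPn n R a).d i (i + 1) = Kd (DPn n R a) i :=
  CochainComplex.of_d (KX (DPn n R a)) (Kd (DPn n R a)) i

end Pn

end Groth.Agent.Lib.Lead.Koszul
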