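import Groth.Agent.Lib.Lead.Koszul.Mumford
import Groth.Agent.Lib.Helper29.SH1

/-!
# The last step of the Koszul complex: sections of `H(d+1)` are sums of `x_l · (sections of H(d))`
-/

set_option autoImplicit false

universe u

open CategoryTheory CategoryTheory.Limits AlgebraicGeometry Opposite

namespace Groth.Agent.Lib.Lead.Koszul

open Groth.Agent.Lib.Helper29.QCoh Groth.Agent.Lib.Lead.TwistExact Groth.Agent.Lib.Lead.LinLES
  Groth.Agent.Lib.Lead.Pn

attribute [local instance] CategoryTheory.Abelian.hasFiniteBiproducts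

/-- Tensoring on the left with `H`, as a functor on `O_X`-modules. -/
noncomputable abbrev tensorLeft {X : Scheme.{u}} (H : X.Modules) : X.Modules ⥤ X.Modules :=
  (ModSite.tensorBi X.sheaf).obj H

lemma tensorLeft_obj {X : Scheme.{u}} (H M : X.Modules) :
    (tensorLeft H).obj M = CohB1.tensorMod H M := rfl

instance tensorLeft_additive {X : Scheme.{u}} (H : X.Modules) : (tensorLeft H).Additive :=
  Groth.Agent.Lib.Helper17.ProjFormula.obj_additive (O := X.sheaf) H

/-- The natural isomorphism `H ⊗ - ≅ - ⊗ H`. -/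
noncomputable def leftIsoRight {X : Scheme.{u}} (H : X.Modules) : tensorLeft H ≅ tensorRight H :=
  Groth.Agent.Lib.Helper17.Tensor.objIsoFlipObj (O := X.sheaf) H

variable (n : ℕ) (R : Type u) [CommRing R] (a : ℤ)

/-- multiplication by the coordinate `x_l` -/
noncomputable abbrev mulX (l : Fin (n + 1)) (d d' : ℤ) (h : d' = d + (1 : ℕ)) :
    Twist.twistProjSpace n R d ⟶ Twist.twistProjSpace n R d' :=
  mulHom (CohB1.polyGrading n R) (Xi n R l) d d' h

theorem surjective_app_top_tensorRight_d (H : (CohB1.ProjSpace n R).Modules)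
    (h : ∀ j : ℕ, j < n →
      Subsingleton (Coh.HH (CohB1.ProjSpace n R) (tw n R H (a + j)) (n - j))) :
    Function.Surjective
      (((tensorRight H).map ((KPn n R a).d n (n + 1))).app (⊤ : (CohB1.ProjSpace n R).Opens)) := by
  have hP := subsingleton_HH_cycles n R a H 0 n (by omega) (fun j hj => by
    rw [zero_add]; exact h j hj)
  rw [show 0 + (n + 1 - n) = 1 by omega] at hP
  have hS := shortExact_cyclesSC_tensor_KPn n R a H n
  haveI : Subsingleton (Coh.HH (CohB1.ProjSpace n R)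
      ((Groth.Agent.Lib.Helper17.CyclesSES.cyclesSC (KPn n R a) n (n + 1)).map
        (tensorRight H)).X₁ 1) := hP
  have h1 := app_top_surjective_of_subsingleton_HH_one _ hS
  have hd0 : (KPn n R a).d (n + 1) (n + 1 + 1) = 0 :=
    (isZero_KPn_X n R a (n + 1 + 1) (by omega)).eq_of_tgt _ _
  haveI : IsIso ((KPn n R a).iCycles (n + 1)) :=
    (KPn n R a).isIso_iCycles (n + 1) (n + 1 + 1) (by simp) hd0
  have hfac : (KPn n R a).d n (n + 1) =
      (KPn n R a).toCycles n (n + 1) ≫ (KPn n R a).iCycles (n + 1) :=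
    ((KPn n R a).toCycles_i n (n + 1)).symm
  rw [hfac, Functor.map_comp]
  intro s
  let e := (tensorRight H).mapIso (asIso ((KPn n R a).iCycles (n + 1)))
  obtain ⟨t, ht⟩ := h1 ((e.inv.app (⊤ : (CohB1.ProjSpace n R).Opens)) s)
  refine ⟨t, ?_⟩
  change (e.hom.app ⊤) ((((tensorRight H).map ((KPn n R a).toCycles n (n + 1))).app ⊤) t) = s
  have ht' : (((tensorRight H).map ((KPn n R a).toCycles n (n + 1))).app ⊤) t =
      (e.inv.app ⊤) s := ht
  rw [ht']
  change ((e.inv ≫ e.hom).app ⊤) s = s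
  rw [e.inv_hom_id]
  rfl

theorem surjective_app_top_tensorLeft_d (H : (CohB1.ProjSpace n R).Modules)
    (h : ∀ j : ℕ, j < n →
      Subsingleton (Coh.HH (CohB1.ProjSpace n R) (tw n R H (a + j)) (n - j))) :
    Function.Surjective
      (((tensorLeft H).map ((KPn n R a).d n (n + 1))).app (⊤ : (CohB1.ProjSpace n R).Opens)) := by
  have h1 := surjective_app_top_tensorRight_d n R a H h
  intro s
  obtain ⟨t, ht⟩ := h1 (((leftIsoRight H).hom.app _).app ⊤ s)
  refine ⟨((leftIsoRight H).inv.app _).app ⊤ t, ?_⟩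
  have hnat := (leftIsoRight H).inv.naturality ((KPn n R a).d n (n + 1))
  change ((((leftIsoRight H).inv.app _) ≫ (tensorLeft H).map ((KPn n R a).d n (n + 1))).app ⊤) t = s
  rw [← hnat]
  change ((leftIsoRight H).inv.app _).app ⊤ ((((tensorRight H).map ((KPn n R a).d n (n + 1))).app ⊤) t)
    = s
  rw [ht]
  change ((((leftIsoRight H).hom.app _) ≫ ((leftIsoRight H).inv.app _)).app ⊤) s = s
  rw [Iso.hom_inv_id_app]
  rfl

/-- **Decomposition**: under the regularity hypotheses, every global section of `H ⊗ O(a+n+1)` is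
a sum of `x_l`-multiples of global sections of `H ⊗ O(a+n)`. -/
theorem exists_decomposition (H : (CohB1.ProjSpace n R).Modules)
    (h : ∀ j : ℕ, j < n →
      Subsingleton (Coh.HH (CohB1.ProjSpace n R) (tw n R H (a + j)) (n - j)))
    (s : ((tensorLeft H).obj (Twist.twistProjSpace n R (a + (n + 1 : ℕ)))).val.obj
      (op (⊤ : (CohB1.ProjSpace n R).Opens))) :
    ∃ t : Fin (n + 1) → ((tensorLeft H).obj (Twist.twistProjSpace n R (a + n))).val.obj
        (op (⊤ : (CohB1.ProjSpace n R).Opens)),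
      s = ∑ l, ((tensorLeft H).map (mulX n R l (a + n) (a + (n + 1 : ℕ)) (by push_cast; ring))).app ⊤
        (t l) := by
  classical
  let D := DPn n R a
  let Φ : (CohB1.ProjSpace n R).Modules ⥤ AddCommGrpCat.{u} :=
    tensorLeft H ⋙ sectionsFunctor (CohB1.ProjSpace n R) ⊤
  let T₀ : Sub (Fin (n + 1)) (n + 1) := ⟨Finset.univ, by rw [Finset.card_univ, Fintype.card_fin]⟩
  let s₀ : Φ.obj (D.M (n + 1)) := s
  let s' : Φ.obj (KX D (n + 1)) :=
    ev Φ s₀ (biproduct.ι (fun _ : Sub (Fin (n + 1)) (n + 1) => D.M (n + 1)) T₀)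
  have hd : (KPn n R a).d n (n + 1) = Kd D n := KPn_d n R a n
  obtain ⟨t, ht⟩ := surjective_app_top_tensorLeft_d n R a H h s'
  rw [hd] at ht
  let t₀ : Φ.obj (KX D n) := t
  have ht' : ev Φ t₀ (Kd D n) = s' := ht
  have h1 := congrFun (fam_Kd D Φ n t₀) T₀.1
  rw [ht', fam_of_card D Φ (n + 1) s' T₀] at h1
  have h2 : ev Φ s' (biproduct.π (fun _ : Sub (Fin (n + 1)) (n + 1) => D.M (n + 1)) T₀) = s₀ := by
    have h3 : biproduct.ι (fun _ : Sub (Fin (n + 1)) (n + 1) => D.M (n + 1)) T₀ ≫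
        biproduct.π (fun _ : Sub (Fin (n + 1)) (n + 1) => D.M (n + 1)) T₀ = 𝟙 _ :=
      biproduct.ι_π_self _ _
    change ev Φ (ev Φ s₀ _) _ = s₀
    rw [← ev_comp, h3, ev_id]
  rw [h2] at h1
  refine ⟨fun l => eps (T₀.1.erase l) l • fam D Φ n t₀ (T₀.1.erase l), ?_⟩
  refine h1.trans ?_
  rw [Dfam]
  refine Finset.sum_congr rfl fun l _ => ?_
  exact (map_zsmul (xΦ D Φ l n) _ _).symm

/-- Version of `exists_decomposition` with free degrees. -/
theorem exists_decomposition' (H : (CohB1.ProjSpace n R).Modules) (d₀ d₁ : ℤ)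
    (hd : d₁ = d₀ + (1 : ℕ))
    (h : ∀ p : ℕ, 1 ≤ p → p ≤ n →
      Subsingleton (Coh.HH (CohB1.ProjSpace n R) (tw n R H (d₀ - p)) p))
    (s : ((tensorLeft H).obj (Twist.twistProjSpace n R d₁)).val.obj
      (op (⊤ : (CohB1.ProjSpace n R).Opens))) :
    ∃ t : Fin (n + 1) → ((tensorLeft H).obj (Twist.twistProjSpace n R d₀)).val.obj
        (op (⊤ : (CohB1.ProjSpace n R).Opens)),
      s = ∑ l, ((tensorLeft H).map (mulX n R l d₀ d₁ hd)).app ⊤ (t l) := by
  obtain ⟨a, rfl⟩ : ∃ a : ℤ, d₀ = a + n := ⟨d₀ - n, by ring⟩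
  have hd' : d₁ = a + ((n + 1 : ℕ) : ℤ) := by rw [hd]; push_cast; ring
  subst hd'
  exact exists_decomposition n R a H (fun j hj => by
    have := h (n - j) (by omega) (by omega)
    rw [show a + (n : ℤ) - ((n - j : ℕ) : ℤ) = a + j by push_cast [Nat.cast_sub hj.le]; ring] at this
    exact this) s

end Groth.Agent.Lib.Lead.Koszul
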