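import Groth.Agent.Lib.Helper29.QCohExact

/-!
# A local criterion for exactness of a short complex of `O_X`-modules
-/

set_option autoImplicit false

universe u

open CategoryTheory CategoryTheory.Limits AlgebraicGeometry Opposite TopologicalSpace

namespace Groth.Agent.Lib.Lead.Koszul

open Groth.Agent.Lib.Helper29.QCoh

variable {X : Scheme.{u}}

lemma app_res {M N : X.Modules} (φ : M ⟶ N) {U V : X.Opens} (h : V ≤ U) (σ : Γ(M, U)) :
    φ.app V (res M h σ) = res N h (φ.app U σ) := by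
  have := φ.mapPresheaf.naturality (homOfLE h).op
  exact congrArg (fun f => f.hom σ) this

/-- A short complex of `O_X`-modules is exact as soon as every section killed by `g` is locally in
the image of `f`. -/
theorem exact_of_local_sections (S : ShortComplex X.Modules)
    (h : ∀ (W : X.Opens) (σ : Γ(S.X₂, W)), S.g.app W σ = 0 → ∀ x : X, x ∈ W →
      ∃ (W' : X.Opens) (hW' : W' ≤ W), x ∈ W' ∧ ∃ τ : Γ(S.X₁, W'),
        S.f.app W' τ = res S.X₂ hW' σ) : S.Exact := by
  rw [exact_iff_stalk_function_exact]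
  intro x t
  constructor
  · intro ht
    obtain ⟨W, hxW, σ, rfl⟩ := S.X₂.presheaf.exists_germ_eq t
    rw [stalkMap_germ] at ht
    have h0 : S.X₃.presheaf.germ W x hxW (S.g.app W σ) =
        S.X₃.presheaf.germ W x hxW (0 : Γ(S.X₃, W)) := by rw [ht, map_zero]
    obtain ⟨W₁, hxW₁, i₁, i₂, he⟩ := S.X₃.presheaf.germ_eq x hxW hxW _ _ h0
    have he' : res S.X₃ (leOfHom i₁) (S.g.app W σ) = 0 := by
      have : res S.X₃ (leOfHom i₁) (S.g.app W σ) = S.X₃.presheaf.map i₂.op (0 : Γ(S.X₃, W)) := he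
      rw [this, map_zero]
    rw [← app_res] at he'
    obtain ⟨W', hW', hxW', τ, hτ⟩ := h W₁ _ he' x hxW₁
    refine ⟨S.X₁.presheaf.germ W' x hxW' τ, ?_⟩
    rw [stalkMap_germ, hτ, res_res, germ_res]
  · rintro ⟨u, rfl⟩
    have : stalkMap S.g x (stalkMap S.f x u) = stalkMap (S.f ≫ S.g) x u := by
      change _ = ((stalkFunctor X x).map (S.f ≫ S.g)) u
      rw [Functor.map_comp]; rfl
    rw [this, S.zero]
    change ((stalkFunctor X x).map (0 : S.X₁ ⟶ S.X₃)) u = 0
    rw [Functor.map_zero]; rfl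

end Groth.Agent.Lib.Lead.Koszul
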