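import Groth.Agent.Lib.Helper29.Twist

/-!
# Multiplication by a homogeneous element on the twisting sheaves of `Proj`

For `a ∈ 𝒜 e` we construct `mulHom a n m (h : m = n + e) : O(n) ⟶ O(m)`, pointwise multiplication by
`a / 1`, and show that it is bijective on sections over opens on which `a` does not vanish.
-/

set_option autoImplicit false

universe u

open CategoryTheory CategoryTheory.Limits AlgebraicGeometry Opposite TopologicalSpace

namespace Groth.Agent.Lib.Lead.Koszul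

open Groth.Agent.Lib.Helper29.QCoh

variable {R A : Type u} [CommRing R] [CommRing A] [Algebra R A] (𝒜 : ℕ → Submodule R A)
  [GradedAlgebra 𝒜]

theorem mul_mem_twistAt {e : ℕ} (a : 𝒜 e) (n m : ℤ) (h : m = n + e) (x : ProjectiveSpectrum 𝒜)
    (q : Twist.Loc 𝒜 x) (hq : q ∈ Twist.twistAt 𝒜 n x) :
    (Localization.mk a.1 1 : Twist.Loc 𝒜 x) * q ∈ Twist.twistAt 𝒜 m x := by
  refine Submodule.span_induction ?_ ?_ ?_ ?_ hq
  · rintro _ ⟨i, j, b, s, hs, hdeg, rfl⟩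
    apply Submodule.subset_span
    refine ⟨e + i, j, ⟨a.1 * b.1, SetLike.mul_mem_graded a.2 b.2⟩, s, hs, ?_, ?_⟩
    · push_cast; omega
    · rw [Localization.mk_mul, one_mul]
  · rw [mul_zero]; exact zero_mem _
  · intro p q _ _ hp hq
    rw [mul_add]; exact add_mem hp hq
  · intro c p _ hp
    have : (Localization.mk a.1 1 : Twist.Loc 𝒜 x) * (c • p) =
        c • ((Localization.mk a.1 1 : Twist.Loc 𝒜 x) * p) := by
      rw [Algebra.smul_def, Algebra.smul_def]; ring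
    rw [this]; exact Submodule.smul_mem _ c hp

theorem div_mem_twistAt {e : ℕ} (a : 𝒜 e) (n m : ℤ) (h : m = n + e) (x : ProjectiveSpectrum 𝒜)
    (ha : a.1 ∉ x.asHomogeneousIdeal)
    (q : Twist.Loc 𝒜 x) (hq : q ∈ Twist.twistAt 𝒜 m x) :
    (Localization.mk 1 ⟨a.1, ha⟩ : Twist.Loc 𝒜 x) * q ∈ Twist.twistAt 𝒜 n x := by
  refine Submodule.span_induction ?_ ?_ ?_ ?_ hq
  · rintro _ ⟨i, j, b, s, hs, hdeg, rfl⟩
    apply Submodule.subset_span
    have hden : a.1 * s.1 ∉ x.asHomogeneousIdeal := fun h' =>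
      (x.isPrime.mem_or_mem h').elim ha hs
    refine ⟨i, e + j, b, ⟨a.1 * s.1, SetLike.mul_mem_graded a.2 s.2⟩, hden, ?_, ?_⟩
    · push_cast; omega
    · rw [Localization.mk_mul, one_mul]; rfl
  · rw [mul_zero]; exact zero_mem _
  · intro p q _ _ hp hq
    rw [mul_add]; exact add_mem hp hq
  · intro c p _ hp
    have : (Localization.mk 1 ⟨a.1, ha⟩ : Twist.Loc 𝒜 x) * (c • p) =
        c • ((Localization.mk 1 ⟨a.1, ha⟩ : Twist.Loc 𝒜 x) * p) := by
      rw [Algebra.smul_def, Algebra.smul_def]; ring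
    rw [this]; exact Submodule.smul_mem _ c hp

variable {𝒜}

/-- Multiplication by `a / 1` on sections. -/
def mulSect {e : ℕ} (a : 𝒜 e) (n m : ℤ) (h : m = n + e)
    (W : (Opens (ProjectiveSpectrum.top 𝒜))ᵒᵖ) (σ : Twist.sectN (𝒜 := 𝒜) n W) :
    Twist.sectN (𝒜 := 𝒜) m W :=
  ⟨fun x => ⟨(Localization.mk a.1 1 : Twist.Loc 𝒜 x.1) * (σ.1 x).1,
      mul_mem_twistAt 𝒜 a n m h x.1 _ (σ.1 x).2⟩, by
    intro x
    obtain ⟨V, hxV, i, i', j, b, s, nin, hdeg, w⟩ := σ.2 x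
    refine ⟨V, hxV, i, e + i', j, ⟨a.1 * b.1, SetLike.mul_mem_graded a.2 b.2⟩, s, nin, ?_, ?_⟩
    · rcases hdeg with hdeg | hdeg
      · left; push_cast; omega
      · right; change a.1 * b.1 = 0; rw [hdeg, mul_zero]
    · intro y
      change (Localization.mk a.1 1 : Twist.Loc 𝒜 _) * (σ.1 (i y)).1 = _
      rw [w y, Localization.mk_mul, one_mul]⟩

/-- Multiplication by `1 / a` on sections over an open where `a` does not vanish. -/
def divSect {e : ℕ} (a : 𝒜 e) (n m : ℤ) (h : m = n + e)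
    (W : (Opens (ProjectiveSpectrum.top 𝒜))ᵒᵖ)
    (ha : ∀ x : W.unop, a.1 ∉ x.1.asHomogeneousIdeal) (σ : Twist.sectN (𝒜 := 𝒜) m W) :
    Twist.sectN (𝒜 := 𝒜) n W :=
  ⟨fun x => ⟨(Localization.mk 1 ⟨a.1, ha x⟩ : Twist.Loc 𝒜 x.1) * (σ.1 x).1,
      div_mem_twistAt 𝒜 a n m h x.1 (ha x) _ (σ.1 x).2⟩, by
    intro x
    obtain ⟨V, hxV, i, i', j, b, s, nin, hdeg, w⟩ := σ.2 x
    have hden : ∀ y : V, a.1 * s.1 ∉ y.1.asHomogeneousIdeal := fun y h' =>
      (y.1.isPrime.mem_or_mem h').elim (ha (i y)) (nin y)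
    refine ⟨V, hxV, i, i', e + j, b, ⟨a.1 * s.1, SetLike.mul_mem_graded a.2 s.2⟩, hden, ?_, ?_⟩
    · rcases hdeg with hdeg | hdeg
      · left; push_cast; omega
      · right; exact hdeg
    · intro y
      change (Localization.mk 1 ⟨a.1, ha (i y)⟩ : Twist.Loc 𝒜 _) * (σ.1 (i y)).1 = _
      rw [w y, Localization.mk_mul, one_mul]; rfl⟩

variable (𝒜)

/-- Multiplication by a homogeneous element of degree `e`, as a morphism `O(n) ⟶ O(n + e)`. -/
noncomputable def mulHom {e : ℕ} (a : 𝒜 e) (n m : ℤ) (h : m = n + e) :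
    Twist.twist 𝒜 n ⟶ Twist.twist 𝒜 m :=
  homOfApp (M := Twist.twist 𝒜 n) (N := Twist.twist 𝒜 m)
    (fun W =>
      { toFun := fun σ => mulSect a n m h (op W) σ
        map_zero' := by
          apply tfun_ext
          intro x
          change (Localization.mk a.1 1 : Twist.Loc 𝒜 x.1) * 0 = 0
          rw [mul_zero]
        map_add' := by
          intro σ τ
          apply tfun_ext
          intro x
          change (Localization.mk a.1 1 : Twist.Loc 𝒜 x.1) * (tfun 𝒜 σ x + tfun 𝒜 τ x) =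
            (Localization.mk a.1 1 : Twist.Loc 𝒜 x.1) * tfun 𝒜 σ x +
              (Localization.mk a.1 1 : Twist.Loc 𝒜 x.1) * tfun 𝒜 τ x
          rw [mul_add] })
    (by
      intro W r σ
      apply tfun_ext
      intro x
      rw [tfun_smul]
      change (Localization.mk a.1 1 : Twist.Loc 𝒜 x.1) * tfun 𝒜 (r • σ) x =
        ofun 𝒜 r x * ((Localization.mk a.1 1 : Twist.Loc 𝒜 x.1) * tfun 𝒜 σ x)
      rw [tfun_smul]; ring)
    (by
      intro W W' hW σ
      rfl)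

theorem tfun_mulHom {e : ℕ} (a : 𝒜 e) (n m : ℤ) (h : m = n + e) (W : (Proj 𝒜).Opens)
    (σ : Γ(Twist.twist 𝒜 n, W)) (x : W) :
    tfun 𝒜 ((mulHom 𝒜 a n m h).app W σ) x =
      (Localization.mk a.1 1 : Twist.Loc 𝒜 x.1) * tfun 𝒜 σ x := rfl

/-- Multiplications by homogeneous elements commute. -/
theorem mulHom_comm {e e' : ℕ} (a : 𝒜 e) (b : 𝒜 e') (n m m' p : ℤ) (h₁ : m = n + e)
    (h₂ : p = m + e') (h₁' : m' = n + e') (h₂' : p = m' + e) :
    mulHom 𝒜 a n m h₁ ≫ mulHom 𝒜 b m p h₂ = mulHom 𝒜 b n m' h₁' ≫ mulHom 𝒜 a m' p h₂' := by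
  apply Scheme.Modules.hom_ext
  intro W
  apply AddCommGrpCat.hom_ext
  ext σ
  apply tfun_ext
  intro x
  change (Localization.mk b.1 1 : Twist.Loc 𝒜 x.1) *
      ((Localization.mk a.1 1 : Twist.Loc 𝒜 x.1) * tfun 𝒜 σ x) =
    (Localization.mk a.1 1 : Twist.Loc 𝒜 x.1) *
      ((Localization.mk b.1 1 : Twist.Loc 𝒜 x.1) * tfun 𝒜 σ x)
  ring

/-- On an open where `a` does not vanish, multiplication by `a` is bijective on sections. -/
theorem mulHom_app_bijective {e : ℕ} (a : 𝒜 e) (n m : ℤ) (h : m = n + e) (W : (Proj 𝒜).Opens)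
    (ha : ∀ x : W, a.1 ∉ x.1.asHomogeneousIdeal) :
    Function.Bijective ((mulHom 𝒜 a n m h).app W) := by
  have hu : ∀ x : W, (Localization.mk 1 ⟨a.1, ha x⟩ : Twist.Loc 𝒜 x.1) *
      (Localization.mk a.1 1 : Twist.Loc 𝒜 x.1) = 1 := by
    intro x
    rw [Localization.mk_mul, one_mul, mul_one]
    exact Localization.mk_self (⟨a.1, ha x⟩ : x.1.asHomogeneousIdeal.toIdeal.primeCompl)
  constructor
  · intro σ τ hστ
    apply tfun_ext
    intro x
    have h1 := congrArg (fun ρ => tfun 𝒜 ρ x) hστ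
    simp only [tfun_mulHom] at h1
    have h2 := congrArg (fun z => (Localization.mk 1 ⟨a.1, ha x⟩ : Twist.Loc 𝒜 x.1) * z) h1
    simp only [← mul_assoc, hu x, one_mul] at h2
    exact h2
  · intro τ
    refine ⟨(divSect a n m h (op W) ha τ : Twist.sectN (𝒜 := 𝒜) n (op W)), ?_⟩
    apply tfun_ext
    intro x
    rw [tfun_mulHom]
    change (Localization.mk a.1 1 : Twist.Loc 𝒜 x.1) *
      ((Localization.mk 1 ⟨a.1, ha x⟩ : Twist.Loc 𝒜 x.1) * tfun 𝒜 τ x) = tfun 𝒜 τ x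
    rw [← mul_assoc, mul_comm (Localization.mk a.1 1 : Twist.Loc 𝒜 x.1), hu x, one_mul]

end Groth.Agent.Lib.Lead.Koszul
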