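import Groth.Agent.Lib.Lead.Koszul.Last
import Groth.Agent.Lib.Helper17.Tensor

/-!
# Surjectivity of the multiplication map `H^0(G) ⊗ H^0(O(1)) → H^0(G ⊗ O(1))`
-/

set_option autoImplicit false

universe u

open CategoryTheory CategoryTheory.Limits AlgebraicGeometry Opposite MonoidalCategory

namespace Groth.Agent.Lib.Lead.Koszul

open Groth.Agent.Lib.Helper29.QCoh Groth.Agent.Lib.Lead.TwistExact Groth.Agent.Lib.Lead.LinLES
  Groth.Agent.Lib.Lead.Pn Groth.Agent.Lib.Helper17.Tensor Groth.Agent.Lib.Helper17.IHom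

section General

variable {X : Scheme.{u}}

/-- Global sections of the unit of sheafification of a presheaf of modules. -/
noncomputable def unTop (P : PMod X.sheaf) :
    P.presheaf.obj (op ⊤) →+ (toPMod ((shF X.sheaf).obj P)).presheaf.obj (op ⊤) :=
  (((PresheafOfModules.toPresheaf _).map (un P)).app (op ⊤)).hom

lemma unTop_eq (P : PMod X.sheaf) (p : P.presheaf.obj (op ⊤)) :
    unTop P p = ((toSheafify (Opens.grothendieckTopology X) P.presheaf).app (op ⊤)) p := rfl

lemma unTop_naturality {P Q : PMod X.sheaf} (φ : P ⟶ Q) (p : P.presheaf.obj (op ⊤)) :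
    unTop Q ((((PresheafOfModules.toPresheaf _).map φ).app (op ⊤)).hom p) =
      (((PresheafOfModules.toPresheaf _).map (pv ((shF X.sheaf).map φ))).app (op ⊤)).hom
        (unTop P p) := by
  have h := un_naturality φ
  have h2 := congrArg (fun ψ => (((PresheafOfModules.toPresheaf _).map ψ).app (op ⊤)).hom p) h
  exact h2

/-- If the underlying presheaf of `P` is a sheaf, the unit is bijective on sections. -/
lemma unTop_surjective_of_isSheaf (P : PMod X.sheaf)
    (hP : Presheaf.IsSheaf (Opens.grothendieckTopology X) P.presheaf) :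
    Function.Surjective (unTop P) := by
  haveI : IsIso (toSheafify (Opens.grothendieckTopology X) P.presheaf) :=
    isIso_toSheafify _ hP
  intro s
  refine ⟨(inv ((toSheafify (Opens.grothendieckTopology X) P.presheaf).app (op ⊤))) s, ?_⟩
  rw [unTop_eq]
  change ((inv ((toSheafify (Opens.grothendieckTopology X) P.presheaf).app (op ⊤))) ≫
    ((toSheafify (Opens.grothendieckTopology X) P.presheaf).app (op ⊤))) s = s
  rw [IsIso.inv_hom_id]
  rfl

/-- The sectionwise tensor product `G ⊗ L` is already a sheaf when `L ≅ O_X`. -/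
lemma isSheaf_tensorPre_of_iso_unit (G L : X.Modules) (e : unitM X ≅ L) :
    Presheaf.IsSheaf (Opens.grothendieckTopology X) (toPMod G ⊗ toPMod L : PMod X.sheaf).presheaf := by
  let e1 : toPMod L ≅ toPMod (unitM X) := (SheafOfModules.forget _).mapIso e.symm
  let e2 : (toPMod G ⊗ toPMod L : PMod X.sheaf) ≅ toPMod G :=
    whiskerLeftIso (toPMod G) e1 ≪≫ ρ_ (toPMod G)
  let e3 : (toPMod G ⊗ toPMod L : PMod X.sheaf).presheaf ≅ (toPMod G).presheaf :=
    (PresheafOfModules.toPresheaf _).mapIso e2
  exact (Presheaf.isSheaf_of_iso_iff e3).2 G.isSheaf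

end General

section Pn

variable (n : ℕ) (R : Type u) [CommRing R]

/-- **Surjectivity of multiplication**: if `H^p(G(-p)) = 0` for `1 ≤ p ≤ n`, then the canonical
map `Γ(G) ⊗ Γ(O(1)) → Γ(G ⊗ O(1))` is surjective. -/
theorem surjective_toSheafify_tensorPre_twist_one (G : (CohB1.ProjSpace n R).Modules)
    (h : ∀ p : ℕ, 1 ≤ p → p ≤ n →
      Subsingleton (Coh.HH (CohB1.ProjSpace n R) (tw n R G (0 - p)) p)) :
    Function.Surjective
      ((toSheafify (Opens.grothendieckTopology (CohB1.ProjSpace n R))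
        (CohB1.tensorPre G (Twist.twistProjSpace n R 1)).presheaf).app (op ⊤)) := by
  let P₀ : PMod (CohB1.ProjSpace n R).sheaf := toPMod G ⊗ toPMod (Twist.twistProjSpace n R 0)
  let P₁ : PMod (CohB1.ProjSpace n R).sheaf := toPMod G ⊗ toPMod (Twist.twistProjSpace n R 1)
  have hsh : Presheaf.IsSheaf (Opens.grothendieckTopology (CohB1.ProjSpace n R)) P₀.presheaf := by
    obtain ⟨e⟩ := nonempty_unit_iso_twist_zero (CohB1.polyGrading n R)
    exact isSheaf_tensorPre_of_iso_unit G _ e
  have h0 := unTop_surjective_of_isSheaf P₀ hsh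
  suffices hs : Function.Surjective (unTop P₁) from hs
  intro s
  obtain ⟨t, ht⟩ := exists_decomposition' n R G 0 1 (by norm_num) h s
  choose p hp using fun l => h0 (t l)
  let ψ : Fin (n + 1) → (P₀ ⟶ P₁) := fun l => toPMod G ◁ pv (mulX n R l 0 1 (by norm_num))
  refine ⟨∑ l, (((PresheafOfModules.toPresheaf _).map (ψ l)).app (op ⊤)).hom (p l), ?_⟩
  rw [map_sum, ht]
  refine Finset.sum_congr rfl fun l _ => ?_
  rw [unTop_naturality, hp l]
  rfl

end Pn

end Groth.Agent.Lib.Lead.Koszul
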