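import Groth.Agent.Lib.Lead.Koszul.Mult

/-!
# Surjectivity of the multiplication maps `H^0(G) ⊗ H^0(O(e)) → H^0(G ⊗ O(e))`
-/

set_option autoImplicit false

universe u

open CategoryTheory CategoryTheory.Limits AlgebraicGeometry Opposite MonoidalCategory

namespace Groth.Agent.Lib.Lead.Koszul

open Groth.Agent.Lib.Helper29.QCoh Groth.Agent.Lib.Lead.TwistExact Groth.Agent.Lib.Lead.LinLES
  Groth.Agent.Lib.Lead.Pn Groth.Agent.Lib.Helper17.Tensor Groth.Agent.Lib.Helper17.IHom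

variable (n : ℕ) (R : Type u) [CommRing R]

/-- **Surjectivity of multiplication by forms of degree `e`**: if `H^p(G(e' - p)) = 0` for
`1 ≤ p ≤ n` and all `e' < e`, then the canonical map `Γ(G) ⊗ Γ(O(e)) → Γ(G ⊗ O(e))` is
surjective. -/
theorem surjective_unTop_tensorPre_twist (G : (CohB1.ProjSpace n R).Modules) (e : ℕ)
    (h : ∀ e' : ℕ, e' < e → ∀ p : ℕ, 1 ≤ p → p ≤ n →
      Subsingleton (Coh.HH (CohB1.ProjSpace n R) (tw n R G ((e' : ℤ) - p)) p)) :
    Function.Surjective (unTop (toPMod G ⊗ toPMod (Twist.twistProjSpace n R (e : ℤ)) :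
      PMod (CohB1.ProjSpace n R).sheaf)) := by
  induction e with
  | zero =>
    obtain ⟨e⟩ := nonempty_unit_iso_twist_zero (CohB1.polyGrading n R)
    have e0 : unitM (CohB1.ProjSpace n R) ≅ Twist.twistProjSpace n R ((0 : ℕ) : ℤ) := by
      rw [Nat.cast_zero]; exact e
    exact unTop_surjective_of_isSheaf _ (isSheaf_tensorPre_of_iso_unit G _ e0)
  | succ e ih =>
    have ih' := ih (fun e' he' => h e' (by omega))
    have hd : ((e + 1 : ℕ) : ℤ) = (e : ℤ) + (1 : ℕ) := by push_cast; rfl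
    intro s
    obtain ⟨t, ht⟩ := exists_decomposition' n R G (e : ℤ) ((e + 1 : ℕ) : ℤ) hd
      (h e (by omega)) s
    choose p hp using fun l => ih' (t l)
    let ψ : Fin (n + 1) → ((toPMod G ⊗ toPMod (Twist.twistProjSpace n R (e : ℤ)) :
        PMod (CohB1.ProjSpace n R).sheaf) ⟶
          (toPMod G ⊗ toPMod (Twist.twistProjSpace n R ((e + 1 : ℕ) : ℤ)))) :=
      fun l => toPMod G ◁ pv (mulX n R l (e : ℤ) ((e + 1 : ℕ) : ℤ) hd)
    refine ⟨∑ l, (((PresheafOfModules.toPresheaf _).map (ψ l)).app (op ⊤)).hom (p l), ?_⟩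
    rw [map_sum, ht]
    refine Finset.sum_congr rfl fun l _ => ?_
    rw [unTop_naturality, hp l]
    rfl

theorem surjective_toSheafify_tensorPre_twist (G : (CohB1.ProjSpace n R).Modules) (e : ℕ)
    (h : ∀ e' : ℕ, e' < e → ∀ p : ℕ, 1 ≤ p → p ≤ n →
      Subsingleton (Coh.HH (CohB1.ProjSpace n R) (tw n R G ((e' : ℤ) - p)) p)) :
    Function.Surjective
      ((toSheafify (Opens.grothendieckTopology (CohB1.ProjSpace n R))
        (CohB1.tensorPre G (Twist.twistProjSpace n R (e : ℤ))).presheaf).app (op ⊤)) :=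
  surjective_unTop_tensorPre_twist n R G e h

end Groth.Agent.Lib.Lead.Koszul
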