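import Groth.Agent.Lib.Lead.Koszul.Abstract
import Groth.Agent.Lib.Lead.Koszul.Local
import Groth.Agent.Lib.Lead.Koszul.Mul

/-!
# The Koszul complex of twisting sheaves on `Proj`

For degree one elements `f l` (`l : I`) whose basic opens cover `Proj 𝒜`, the Koszul complex
`0 → O(a) → O(a+1)^{I} → ⋯` is exact.
-/

set_option autoImplicit false

universe u

open CategoryTheory CategoryTheory.Limits AlgebraicGeometry Opposite TopologicalSpace

namespace Groth.Agent.Lib.Lead.Koszul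

open Groth.Agent.Lib.Helper29.QCoh

attribute [local instance] CategoryTheory.Abelian.hasFiniteBiproducts

variable {R A : Type u} [CommRing R] [CommRing A] [Algebra R A] (𝒜 : ℕ → Submodule R A)
  [GradedAlgebra 𝒜] {I : Type} [Fintype I] [LinearOrder I] (f : I → 𝒜 1) (a : ℤ)

/-- Koszul data of the twisting sheaves. -/
noncomputable def projData : KData (Proj 𝒜).Modules I where
  M i := Twist.twist 𝒜 (a + i)
  X l i := mulHom 𝒜 (f l) (a + i) (a + (i + 1 : ℕ)) (by push_cast; ring)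
  comm j l i := mulHom_comm 𝒜 (f l) (f j) _ _ _ _ _ _ _ _

variable (hcov : ∀ x : Proj 𝒜, ∃ l : I, x ∈ Proj.basicOpen 𝒜 (f l).1)

include hcov

theorem projData_exact (i : ℕ) :
    (ShortComplex.mk (Kd (projData 𝒜 f a) i) (Kd (projData 𝒜 f a) (i + 1))
      (Kd_comp_Kd (projData 𝒜 f a) i)).Exact := by
  apply exact_of_local_sections
  intro W σ hσ x hxW
  obtain ⟨j, hj⟩ := hcov x
  let W' : (Proj 𝒜).Opens := W ⊓ Proj.basicOpen 𝒜 (f j).1
  have hW' : W' ≤ W := inf_le_left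
  refine ⟨W', hW', ⟨hxW, hj⟩, ?_⟩
  have hbij : ∀ i, Function.Bijective (xΦ (projData 𝒜 f a) (sectionsFunctor (Proj 𝒜) W') j i) := by
    intro i
    exact mulHom_app_bijective 𝒜 (f j) _ _ _ W' (fun y => y.2.2)
  have hs : ev (sectionsFunctor (Proj 𝒜) W') (res _ hW' σ) (Kd (projData 𝒜 f a) (i + 1)) = 0 := by
    change (Kd (projData 𝒜 f a) (i + 1)).app W' (res _ hW' σ) = 0
    rw [app_res]
    change res _ hW' ((Kd (projData 𝒜 f a) (i + 1)).app W σ) = 0
    rw [hσ, map_zero]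
  obtain ⟨t, ht⟩ := exists_preimage (projData 𝒜 f a) (sectionsFunctor (Proj 𝒜) W') j hbij i
    (res _ hW' σ) hs
  exact ⟨t, ht⟩

theorem projData_mono : Mono (Kd (projData 𝒜 f a) 0) := by
  have h0 : (0 : KX (projData 𝒜 f a) 0 ⟶ KX (projData 𝒜 f a) 0) ≫ Kd (projData 𝒜 f a) 0 = 0 :=
    zero_comp
  rw [← (ShortComplex.mk _ _ h0).exact_iff_mono rfl]
  apply exact_of_local_sections
  intro W σ hσ x hxW
  obtain ⟨j, hj⟩ := hcov x
  let W' : (Proj 𝒜).Opens := W ⊓ Proj.basicOpen 𝒜 (f j).1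
  have hW' : W' ≤ W := inf_le_left
  refine ⟨W', hW', ⟨hxW, hj⟩, 0, ?_⟩
  have hbij : ∀ i, Function.Bijective (xΦ (projData 𝒜 f a) (sectionsFunctor (Proj 𝒜) W') j i) := by
    intro i
    exact mulHom_app_bijective 𝒜 (f j) _ _ _ W' (fun y => y.2.2)
  have hs : ev (sectionsFunctor (Proj 𝒜) W') (res _ hW' σ) (Kd (projData 𝒜 f a) 0) = 0 := by
    change (Kd (projData 𝒜 f a) 0).app W' (res _ hW' σ) = 0
    rw [app_res]
    change res _ hW' ((Kd (projData 𝒜 f a) 0).app W σ) = 0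
    rw [hσ, map_zero]
  have := eq_zero_of_Kd_zero (projData 𝒜 f a) (sectionsFunctor (Proj 𝒜) W') j hbij
    (res _ hW' σ) hs
  rw [map_zero]
  exact this.symm

omit hcov in
theorem isZero_KX_of_card_lt (i : ℕ) (hi : Fintype.card I < i) :
    IsZero (KX (projData 𝒜 f a) i) := by
  haveI : IsEmpty (Sub I i) := by
    constructor
    rintro ⟨S, hS⟩
    have := Finset.card_le_univ S
    omega
  rw [IsZero.iff_id_eq_zero]
  apply biproduct.hom_ext
  intro S
  exact isEmptyElim S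

end Groth.Agent.Lib.Lead.Koszul
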